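import Groth.Agent.FComplLib.Extension
import Groth.Agent.FComplLib.QuasiCoh
import Groth.Agent.FComplLib.QCKernel

/-!
# Quasi-coherent and coherent modules over an open part of a formal scheme
-/

set_option autoImplicit false
set_option linter.style.haveILetI false
set_option linter.unusedVariables false
set_option backward.isDefEq.respectTransparency false
set_option backward.isDefEq.respectTransparency.types false
set_option maxHeartbeats 1000000

universe u

open CategoryTheory CategoryTheory.Limits AlgebraicGeometry TopologicalSpace Opposite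

noncomputable section

namespace Groth.Agent.FSchRHom

open Groth.Agent.FCompl

variable {𝔛 : FSch.Sys.{u}} {h : 𝔛.IsFormal}

/-- Generators and relations, finitely many generators if `fin`. -/
def Data (fin : Prop) (M : FSch.ModF 𝔛 h) (V : (𝔛.X 0).Opens) : Prop :=
  ∃ D : RelData M V, fin → Finite D.I

/-- Quasi-coherent (`fin` false) or coherent (`fin` true) on an open. -/
def POn (fin : Prop) (M : FSch.ModF 𝔛 h) (U : (𝔛.X 0).Opens) : Prop :=
  ∀ ⦃x : 𝔛.X 0⦄, x ∈ U → ∀ ⦃W : (𝔛.X 0).Opens⦄, x ∈ W →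
    ∃ V : (𝔛.X 0).Opens, V ≤ W ∧ x ∈ V ∧ Data fin M V

theorem POn.mono {fin : Prop} {M : FSch.ModF 𝔛 h} {U U' : (𝔛.X 0).Opens} (hM : POn fin M U) (e : U' ≤ U) :
    POn fin M U' := fun _ hx _ hW => hM (e hx) hW

theorem POn.of_local {fin : Prop} {M : FSch.ModF 𝔛 h} {U : (𝔛.X 0).Opens}
    (hM : ∀ x ∈ U, ∃ U' : (𝔛.X 0).Opens, x ∈ U' ∧ POn fin M U') : POn fin M U := fun x hx _ hW =>
  let ⟨_, hx', h'⟩ := hM x hx
  h' hx' hW

theorem data_of_genFin {fin : Prop} {M : FSch.ModF 𝔛 h} {V : (𝔛.X 0).Opens} {I : Type u} {t : I → M.val.obj (op V)}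
    (hs : GenFin M t) (hr : RelFin M t) (hfin : fin → Finite I) : Data fin M V :=
  ⟨relDataOfPresentation M (presentationFin hs hr), hfin⟩

/-- A morphism which is bijective on sections over the opens inside `U`. -/
def IsoOn {M N : FSch.ModF 𝔛 h} (φ : M ⟶ N) (U : (𝔛.X 0).Opens) : Prop :=
  ∀ Z : (𝔛.X 0).Opens, Z ≤ U → Function.Bijective (φ.val.app (op Z)).hom

theorem isoOn_of_isIso {M N : FSch.ModF 𝔛 h} (φ : M ⟶ N) [IsIso φ] (U : (𝔛.X 0).Opens) : IsoOn φ U := fun Z _ => by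
  refine Function.bijective_iff_has_inverse.2 ⟨fun y => ((inv φ).val.app (op Z)).hom y, fun x => ?_, fun y => ?_⟩
  · exact congrArg (fun f : M ⟶ M => (f.val.app (op Z)).hom x) (IsIso.hom_inv_id φ)
  · exact congrArg (fun f : N ⟶ N => (f.val.app (op Z)).hom y) (IsIso.inv_hom_id φ)

section Transfer

variable {M N : FSch.ModF 𝔛 h} {φ : M ⟶ N} {U : (𝔛.X 0).Opens} {I : Type u} (t : I → M.val.obj (op U))

theorem map_comb {W Z : (𝔛.X 0).Opens} (g : W ⟶ U) (S : Finset I) (a : I → OR 𝔛 h W) :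
    (φ.val.app (op W)).hom (∑ i ∈ S, a i • FPLocal.mres M g.op (t i)) =
      ∑ i ∈ S, a i • FPLocal.mres N g.op ((φ.val.app (op U)).hom (t i)) := by
  rw [map_sum]
  refine Finset.sum_congr rfl fun i _ => (map_smul _ _ _).trans ?_
  rw [FPLocal.app_mres]

theorem genFin_transfer (hφ : IsoOn φ U) :
    GenFin M t ↔ GenFin N (fun i => (φ.val.app (op U)).hom (t i)) := by
  constructor
  · intro hs W g m
    obtain ⟨m', rfl⟩ := (hφ W (leOfHom g)).2 m
    refine (hs g m').mono fun Z l ⟨S, a, ha⟩ => ⟨S, a, ?_⟩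
    have e := congrArg (φ.val.app (op Z)).hom ha
    exact ((map_comb t (Z := Z) (l ≫ g) S a).symm.trans e).trans (FPLocal.app_mres φ l m')
  · intro hs W g m
    refine (hs g ((φ.val.app (op W)).hom m)).mono fun Z l ⟨S, a, ha⟩ => ⟨S, a, ?_⟩
    refine (hφ Z ((leOfHom l).trans (leOfHom g))).1 ?_
    exact ((map_comb t (Z := Z) (l ≫ g) S a).trans ha).trans (FPLocal.app_mres φ l m).symm

theorem relFin_transfer (hφ : IsoOn φ U) :
    RelFin M t ↔ RelFin N (fun i => (φ.val.app (op U)).hom (t i)) := by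
  classical
  have hiff : ∀ c : I →₀ OR 𝔛 h U, (c.sum fun i a => a • t i) = 0 ↔
      (c.sum fun i a => a • (φ.val.app (op U)).hom (t i)) = 0 := fun c => by
    have e : (φ.val.app (op U)).hom (c.sum fun i a => a • t i) = c.sum fun i a => a • (φ.val.app (op U)).hom (t i) := by
      rw [Finsupp.sum, map_sum]
      exact Finset.sum_congr rfl fun i _ => map_smul _ _ _
    exact ⟨fun h0 => by rw [← e, h0, map_zero], fun h0 => (hφ U le_rfl).1 (by rw [e, h0, map_zero])⟩
  constructor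
  · intro hr W g S d hd0 hd
    have hd' : ∑ i ∈ S, d i • FPLocal.mres M g.op (t i) = 0 :=
      (hφ W (leOfHom g)).1 ((map_comb t (Z := W) g S d).trans (hd.trans (map_zero _).symm))
    refine (hr g S d hd0 hd').mono fun Z l ⟨T, e, he⟩ => ?_
    refine ⟨T.map ⟨fun c => ⟨c.1, (hiff c.1).1 c.2⟩, fun a b hab => by injection hab with h'; exact Subtype.ext h'⟩,
      fun c => e ⟨c.1, (hiff c.1).2 c.2⟩, fun i => ?_⟩
    rw [Finset.sum_map]
    exact he i
  · intro hr W g S d hd0 hd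
    have hd' : ∑ i ∈ S, d i • FPLocal.mres N g.op ((φ.val.app (op U)).hom (t i)) = 0 := by
      refine (map_comb t (Z := W) g S d).symm.trans ?_
      rw [show ∑ i ∈ S, d i • FPLocal.mres M g.op (t i) = 0 from hd, map_zero]
    refine (hr g S d hd0 hd').mono fun Z l ⟨T, e, he⟩ => ?_
    refine ⟨T.map ⟨fun c => ⟨c.1, (hiff c.1).2 c.2⟩, fun a b hab => by injection hab with h'; exact Subtype.ext h'⟩,
      fun c => e ⟨c.1, (hiff c.1).1 c.2⟩, fun i => ?_⟩
    rw [Finset.sum_map]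
    exact he i

end Transfer

/-- Generators with finite relations over an affine open inside the domain of generators and relations. -/
theorem exists_genFin (hL : 𝔛.IsLocNoethFormal) {M : FSch.ModF 𝔛 h} {U V : (𝔛.X 0).Opens} (D : RelData M V)
    (hU : IsAffineOpen U) (hUV : U ≤ V) :
    ∃ t : D.I → M.val.obj (op U), GenFin M t ∧ RelFin M t := by
  let φ : M ⟶ M := 0
  let π := cokernel.π φ
  haveI : IsIso π := cokernel.π_of_zero (rfl : φ = 0)
  have hπ := isoOn_of_isIso π U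
  refine ⟨fun j => FPLocal.mres M (homOfLE hUV).op (D.t j), ?_, ?_⟩
  · rw [genFin_transfer _ hπ]
    exact genFin_cokernel φ D hUV
  · rw [relFin_transfer _ hπ]
    exact relFin_cokernel φ hL D D hU hUV hUV

theorem POn.exists_genFin (hL : 𝔛.IsLocNoethFormal) {fin : Prop} {M : FSch.ModF 𝔛 h} {U W : (𝔛.X 0).Opens}
    (hM : POn fin M U) {x : 𝔛.X 0} (hx : x ∈ U) (hW : x ∈ W) :
    ∃ V : (𝔛.X 0).Opens, V ≤ W ∧ x ∈ V ∧ ∃ (I : Type u) (t : I → M.val.obj (op V)),
      GenFin M t ∧ RelFin M t ∧ (fin → Finite I) := by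
  obtain ⟨V, hVW, hxV, D, hD⟩ := hM hx hW
  obtain ⟨U', hU', hxU', hUV⟩ := exists_affine_le (𝔛 := 𝔛) hxV
  obtain ⟨t, h1, h2⟩ := FSchRHom.exists_genFin hL D hU' hUV
  exact ⟨U', hUV.trans hVW, hxU', D.I, t, h1, h2, hD⟩

theorem POn.of_isoOn (hL : 𝔛.IsLocNoethFormal) {fin : Prop} {M N : FSch.ModF 𝔛 h} {φ : M ⟶ N} {U : (𝔛.X 0).Opens}
    (hφ : IsoOn φ U) (hM : POn fin M U) : POn fin N U := by
  intro x hx W hW
  obtain ⟨V, hVW, hxV, I, t, h1, h2, hI⟩ := hM.exists_genFin hL hx (show x ∈ W ⊓ U from ⟨hW, hx⟩)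
  have hφV : IsoOn φ V := fun Z hZ => hφ Z (hZ.trans (hVW.trans inf_le_right))
  exact ⟨V, hVW.trans inf_le_left, hxV,
    data_of_genFin ((genFin_transfer t hφV).1 h1) ((relFin_transfer t hφV).1 h2) hI⟩

theorem POn.of_isoOn' (hL : 𝔛.IsLocNoethFormal) {fin : Prop} {M N : FSch.ModF 𝔛 h} {φ : M ⟶ N} {U : (𝔛.X 0).Opens}
    (hφ : IsoOn φ U) (hN : POn fin N U) : POn fin M U := by
  intro x hx W hW
  obtain ⟨V, hVW, hxV, I, t, h1, h2, hI⟩ := hN.exists_genFin hL hx (show x ∈ W ⊓ U from ⟨hW, hx⟩)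
  have hφV : IsoOn φ V := fun Z hZ => hφ Z (hZ.trans (hVW.trans inf_le_right))
  choose t' ht' using fun i => (hφV V le_rfl).2 (t i)
  have e : t = fun i => (φ.val.app (op V)).hom (t' i) := funext fun i => (ht' i).symm
  rw [e] at h1 h2
  exact ⟨V, hVW.trans inf_le_left, hxV,
    data_of_genFin ((genFin_transfer t' hφV).2 h1) ((relFin_transfer t' hφV).2 h2) hI⟩

theorem POn.of_iso (hL : 𝔛.IsLocNoethFormal) {fin : Prop} {M N : FSch.ModF 𝔛 h} (e : M ≅ N) {U : (𝔛.X 0).Opens}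
    (hM : POn fin M U) : POn fin N U :=
  hM.of_isoOn hL (isoOn_of_isIso e.hom U)

/-- Generators and relations from finitely many generators and relations. -/
def relDataOfRels {M : FSch.ModF 𝔛 h} {V : (𝔛.X 0).Opens} {I K : Type u} [Fintype I] [Fintype K]
    (s : I → M.val.obj (op V)) (c : K → I → OR 𝔛 h V) (hs : FPLocal.Gen M s) (h0 : ∀ k, ∑ i, c k i • s i = 0)
    (hc : FPLocal.RelComplete M c s) : RelData M V where
  I := I
  K := K
  t := s
  r := c
  gen W g m := by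
    obtain ⟨S, hS, hS'⟩ := hs g m
    exact ⟨S, hS, fun Z l hl => let ⟨a, ha⟩ := hS' l hl; ⟨Finset.univ, a, ha⟩⟩
  rel k := by
    refine ⟨⊤, GrothendieckTopology.top_mem _ _, fun Z l _ => ⟨Finset.univ, fun i hi => absurd (Finset.mem_univ i) hi, ?_⟩⟩
    have e := congrArg (FPLocal.mres M l.op) (h0 k)
    rw [map_zero, map_sum] at e
    exact Eq.trans (Finset.sum_congr rfl fun i _ => (PresheafOfModules.map_smul M.val l.op (c k i) (s i)).symm) e
  complete W g S d hd0 hd := by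
    have hd' : ∑ i, d i • FPLocal.mres M g.op (s i) = 0 := by
      rw [← Finset.sum_subset (Finset.subset_univ S) fun i _ hi => by rw [hd0 i hi, zero_smul]]
      exact hd
    obtain ⟨T, hT, hT'⟩ := hc g d hd'
    exact ⟨T, hT, fun Z l hl => let ⟨e, he⟩ := hT' l hl; ⟨Finset.univ, e, he⟩⟩

theorem pOn_of_qc {fin : Prop} (hfin : ¬ fin) (M : FSch.ModF 𝔛 h) [SheafOfModules.IsQuasicoherent.{u} M]
    (U : (𝔛.X 0).Opens) : POn fin M U := fun x _ W hW => by
  obtain ⟨V, hVW, hxV, ⟨D⟩⟩ := exists_relData (𝔉 := M) hW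
  exact ⟨V, hVW, hxV, D, fun hf => absurd hf hfin⟩

theorem pOn_of_coh {fin : Prop} {M : FSch.ModF 𝔛 h} (hM : FSch.IsCohF 𝔛 h M) (U : (𝔛.X 0).Opens) : POn fin M U :=
  fun x _ W hW => by
  obtain ⟨S, hS, hS'⟩ := @FPLocal.exists_sieve_hasRels _ _ _ _ M hM W
  obtain ⟨V, g, hg, hxV⟩ := hS x hW
  obtain ⟨I, K, hI, hK, s, c, hs, h0, hc⟩ := hS' g hg
  exact ⟨V, leOfHom g, hxV, relDataOfRels s c hs h0 hc, fun _ => inferInstanceAs (Finite I)⟩

theorem isQuasicoherent_of_pOn (hL : 𝔛.IsLocNoethFormal) {fin : Prop} {M : FSch.ModF 𝔛 h} (hM : POn fin M ⊤) :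
    SheafOfModules.IsQuasicoherent.{u} M := by
  refine isQuasicoherent_of_genFin M fun W =>
    ⟨{ arrows := fun Z _ => ∃ (U : (𝔛.X 0).Opens) (_ : Z ⟶ U) (I : Type u) (t : I → M.val.obj (op U)),
        GenFin M t ∧ RelFin M t
       downward_closed := fun {Y Z} _ ⟨U, f, hU⟩ k => ⟨U, k ≫ f, hU⟩ }, fun x hx => ?_, fun Z g hg => hg⟩
  obtain ⟨V, hVW, hxV, I, t, h1, h2, -⟩ := hM.exists_genFin hL trivial hx
  exact ⟨V, homOfLE hVW, ⟨V, 𝟙 V, I, t, h1, h2⟩, hxV⟩

theorem isCohF_of_pOn (hL : 𝔛.IsLocNoethFormal) {M : FSch.ModF 𝔛 h} (hM : POn True M ⊤) : FSch.IsCohF 𝔛 h M := by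
  classical
  haveI := isQuasicoherent_of_pOn hL hM
  haveI : SheafOfModules.IsFiniteType.{u} M := FPLocal.isFiniteType_of_hasGen M fun W =>
    ⟨{ arrows := fun Z _ => FPLocal.HasGen M Z
       downward_closed := fun {Y Z} _ hZ k => hZ.restrict k }, fun x hx => by
      obtain ⟨V, hVW, hxV, I, t, h1, -, hI⟩ := hM.exists_genFin hL trivial hx
      haveI := hI trivial
      haveI := Fintype.ofFinite I
      refine ⟨V, homOfLE hVW, ⟨I, inferInstance, t, fun Z g m => ?_⟩, hxV⟩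
      obtain ⟨S₁, hS₁, hS₁'⟩ := h1 g m
      refine ⟨S₁, hS₁, fun Y l hl => ?_⟩
      obtain ⟨S, a, ha⟩ := hS₁' l hl
      refine ⟨fun i => if i ∈ S then a i else 0, Eq.trans ?_ ha⟩
      rw [← Finset.sum_subset (Finset.subset_univ S) fun i _ hi => by dsimp only; rw [if_neg hi, zero_smul]]
      exact Finset.sum_congr rfl fun i hi => by dsimp only; rw [if_pos hi], fun Z g hg => hg⟩
  exact isCohF_of_qc_ft hL M

/-- Generators expressed through finitely many sections. -/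
theorem gen_of_span {K : FSch.ModF 𝔛 h} {U' : (𝔛.X 0).Opens} {I J : Type u} [Fintype J] {t : I → K.val.obj (op U')}
    (hg : GenFin K t) (s : J → K.val.obj (op U')) (b : I → J → OR 𝔛 h U') (hb : ∀ i, ∑ j, b i j • s j = t i) :
    FPLocal.Gen K s := by
  intro Z g m
  obtain ⟨S₁, hS₁, hS₁'⟩ := hg g m
  refine ⟨S₁, hS₁, fun Y l hl => ?_⟩
  obtain ⟨S, a₀, ha⟩ := hS₁' l hl
  let a : I → OR 𝔛 h Y := a₀
  have hYU : Y ≤ U' := leOfHom (l ≫ g)
  refine ⟨fun j => ∑ i ∈ S, a i * rsO 𝔛 h hYU (b i j), Eq.trans ?_ ha⟩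
  simp only [Finset.sum_smul]
  rw [Finset.sum_comm]
  refine Finset.sum_congr rfl fun i _ => ?_
  have e := congrArg (FPLocal.mres K (homOfLE hYU).op) (hb i)
  rw [map_sum] at e
  refine Eq.trans ?_ (congrArg (a i • ·) e)
  rw [Finset.smul_sum]
  refine Finset.sum_congr rfl fun j _ => ?_
  rw [mul_smul, mres_smul']
  rfl

section Closure

variable (hL : 𝔛.IsLocNoethFormal) {fin : Prop} {M N : FSch.ModF 𝔛 h} (φ : M ⟶ N) {U : (𝔛.X 0).Opens}

include hL in
theorem POn.coker (hM : POn fin M U) (hN : POn fin N U) : POn fin (Limits.cokernel φ) U := by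
  intro x hx W hW
  obtain ⟨V, hVW, hxV, D, -⟩ := hM hx hW
  obtain ⟨V', hV'V, hxV', D', hD'⟩ := hN hx hxV
  obtain ⟨U', hU', hxU', hUV'⟩ := exists_affine_le (𝔛 := 𝔛) hxV'
  exact ⟨U', hUV'.trans (hV'V.trans hVW), hxU', data_of_genFin (genFin_cokernel φ D' hUV')
    (relFin_cokernel φ hL D D' hU' (hUV'.trans hV'V) hUV') hD'⟩

include hL in
set_option maxHeartbeats 4000000 in
theorem POn.ker (hM : POn fin M U) (hN : POn fin N U) : POn fin (Limits.kernel φ) U := by
  classical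
  intro x hx W hW
  obtain ⟨V, hVW, hxV, D, hD⟩ := hM hx hW
  obtain ⟨V', hV'V, hxV', D', -⟩ := hN hx hxV
  obtain ⟨U', hU', hxU', hUV'⟩ := exists_affine_le (𝔛 := 𝔛) hxV'
  have hUV := hUV'.trans hV'V
  have hg := genFin_kernel φ hL D D' hU' hUV hUV'
  have hr := relFin_kernel φ hL D hU' hUV
  by_cases hf : fin
  swap
  · exact ⟨U', hUV.trans hVW, hxU', data_of_genFin hg hr fun h' => absurd h' hf⟩
  haveI := noetherian (h := h) hL hU'
  haveI : Finite D.I := hD hf
  haveI := Fintype.ofFinite D.I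
  -- sections of the kernel over `U'` are finitely generated
  haveI : Module.Finite (OR 𝔛 h U') (M.val.obj (op U')) := by
    refine Module.Finite.of_surjective
      (Fintype.linearCombination (OR 𝔛 h U') fun j => FPLocal.mres M (homOfLE hUV).op (D.t j)) fun m => ?_
    obtain ⟨S, a, ha0, ha⟩ := exists_eq_sum hL D hU' hUV m
    refine ⟨a, ?_⟩
    rw [Fintype.linearCombination_apply, ← ha]
    exact (Finset.sum_subset (Finset.subset_univ S) fun j _ hj => by rw [ha0 j hj, zero_smul]).symm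
  haveI : IsNoetherian (OR 𝔛 h U') (M.val.obj (op U')) := isNoetherian_of_isNoetherianRing_of_finite _ _
  let L : (kernel φ).val.obj (op U') →ₗ[OR 𝔛 h U'] M.val.obj (op U') := ((kernel.ι φ).val.app (op U')).hom
  have hLinj : Function.Injective L := FPLocal.app_injective_of_mono (kernel.ι φ) U'
  haveI : IsNoetherian (OR 𝔛 h U') ((kernel φ).val.obj (op U')) := isNoetherian_of_injective L hLinj
  obtain ⟨l, s, hs⟩ := Submodule.fg_iff_exists_fin_generating_family.1
    (IsNoetherian.noetherian (⊤ : Submodule (OR 𝔛 h U') ((kernel φ).val.obj (op U'))))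
  let s' : ULift.{u} (Fin l) → (kernel φ).val.obj (op U') := fun i => s i.down
  have hspan : ∀ m, ∃ a : ULift.{u} (Fin l) → OR 𝔛 h U', ∑ i, a i • s' i = m := fun m => by
    have hm : m ∈ Submodule.span (OR 𝔛 h U') (Set.range s') := by
      rw [show Set.range s' = Set.range s by ext; simp [s', ULift.exists], hs]
      trivial
    exact (Submodule.mem_span_range_iff_exists_fun _).1 hm
  choose b hb using hspan
  obtain ⟨E, -⟩ := data_of_genFin (fin := False) hg hr (fun h' => h'.elim)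
  have hgen := gen_of_span hg s' b hb
  obtain ⟨U'', hU''le, hU'', hxU'', S₀, a, ha0, ha⟩ := exists_coeffs E (le_refl U') s' hxU'
  obtain ⟨I, K, hI, hK, s'', c, hs'', h0, hc⟩ :=
    hasRels_of_relData hL E hU'' hU''le _ (hgen.restrict (homOfLE hU''le)) S₀ a ha0 ha
  exact ⟨U'', hU''le.trans (hUV.trans hVW), hxU'', relDataOfRels s'' c hs'' h0 hc,
    fun _ => inferInstanceAs (Finite I)⟩

include hL in
/-- Extensions. -/
theorem POn.extension [Epi φ] (hK : POn fin (Limits.kernel φ) U) (hN : POn fin N U) : POn fin M U := by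
  intro x hx W hW
  obtain ⟨V, hVW, hxV, D, hD⟩ := hK hx hW
  obtain ⟨V', hV'V, hxV', D'', hD''⟩ := hN hx hxV
  obtain ⟨U', hU', hxU', hUV'⟩ := exists_affine_le (𝔛 := 𝔛) hxV'
  have hUV := hUV'.trans hV'V
  choose T hT using fun j => exists_lift_section φ hL D hU' hUV (FPLocal.mres N (homOfLE hUV').op (D''.t j))
  have hex : ∀ (W : (𝔛.X 0).Opens) (y : M.val.obj (op W)), (φ.val.app (op W)).hom y = 0 →
      ∃ w, ((kernel.ι φ).val.app (op W)).hom w = y := fun W y hy => FPLocal.exists_kernel_preimage φ y hy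
  refine ⟨U', hUV.trans hVW, hxU', data_of_genFin
    (genFin_extension (kernel.ι φ) φ D D'' hUV hUV' T hex hT)
    (relFin_extension (kernel.ι φ) φ D D'' hUV hUV' T (kernel.condition φ) hex hT hL hU') fun hf => ?_⟩
  haveI := hD hf
  haveI := hD'' hf
  infer_instance

include hL in
/-- The middle of five. -/
theorem POn.five {A B C E : FSch.ModF 𝔛 h} {X : FSch.ModF 𝔛 h} (f : A ⟶ B) (g : B ⟶ X) (k : X ⟶ C)
    (l : C ⟶ E) (hfg : f ≫ g = 0) (hgk : g ≫ k = 0) (hkl : k ≫ l = 0) (e₁ : (ShortComplex.mk f g hfg).Exact)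
    (e₂ : (ShortComplex.mk g k hgk).Exact) (e₃ : (ShortComplex.mk k l hkl).Exact)
    (hA : POn fin A U) (hB : POn fin B U) (hC : POn fin C U) (hE : POn fin E U) : POn fin X U := by
  let kk : X ⟶ Limits.kernel l := kernel.lift l k hkl
  haveI : Epi kk := e₃.epi_kernelLift
  let q : Limits.cokernel f ⟶ X := cokernel.desc f g hfg
  haveI : Mono q := e₁.mono_cokernelDesc
  have hq : q ≫ kk = 0 := coequalizer.hom_ext (equalizer.hom_ext (by simp [q, kk, hgk]))
  let S : ShortComplex (FSch.ModF 𝔛 h) := ShortComplex.mk q kk hq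
  have hS : S.Exact := by
    let α : ShortComplex.mk g kk (by rw [← cancel_mono (kernel.ι l)]; simp [kk, hgk]) ⟶ S :=
      { τ₁ := cokernel.π f, τ₂ := 𝟙 X, τ₃ := 𝟙 _ }
    rw [← ShortComplex.exact_iff_of_epi_of_isIso_of_mono α]
    let β : ShortComplex.mk g kk (by rw [← cancel_mono (kernel.ι l)]; simp [kk, hgk]) ⟶ ShortComplex.mk g k hgk :=
      { τ₁ := 𝟙 _, τ₂ := 𝟙 X, τ₃ := kernel.ι l }
    rw [ShortComplex.exact_iff_of_epi_of_isIso_of_mono β]
    exact e₂
  haveI : Mono S.f := (inferInstance : Mono q)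
  let iso : Limits.cokernel f ≅ Limits.kernel kk :=
    (IsLimit.conePointUniqueUpToIso hS.fIsKernel (kernelIsKernel S.g) :)
  exact POn.extension hL kk ((POn.coker hL f hA hB).of_iso hL iso) (POn.ker hL l hC hE)

end Closure

end Groth.Agent.FSchRHom
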