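import Groth.Agent.FSchRHomLib.SiteSeq
import Groth.Agent.FSchRHomLib.LocalClass
import Groth.Agent.FComplLib.GlobalPres
import Mathlib.Algebra.Homology.HomologySequence
import Mathlib.Algebra.Homology.HomotopyCategory.DegreewiseSplit
import Mathlib.Algebra.Homology.HomotopyCategory.SingleFunctors
import Mathlib.Algebra.Homology.SingleHomology

/-!
# Cohomology of the internal Hom complex on a formal scheme
-/

set_option autoImplicit false
set_option linter.style.haveILetI false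
set_option linter.unusedSectionVars false
set_option linter.unusedVariables false
set_option backward.isDefEq.respectTransparency false
set_option backward.isDefEq.respectTransparency.types false
set_option maxHeartbeats 2000000

universe u

open CategoryTheory CategoryTheory.Limits AlgebraicGeometry TopologicalSpace Opposite

attribute [local instance] HasDerivedCategory.standard

noncomputable section

namespace Groth.Agent.FSchRHom

open Groth.Agent.FCompl

variable {𝔛 : FSch.Sys.{u}} {h : 𝔛.IsFormal}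

/-- The module vanishes on an open. -/
abbrev ZeroOn (U : (𝔛.X 0).Opens) (M : FSch.ModF 𝔛 h) : Prop :=
  IsZero ((ModSite.restr (𝔛.Osh h) U).obj M)

theorem zeroOn_of_isZero (U : (𝔛.X 0).Opens) {M : FSch.ModF 𝔛 h} (hM : IsZero M) : ZeroOn U M :=
  (ModSite.restr (𝔛.Osh h) U).map_isZero hM

theorem eq_zero_of_zeroOn {U Z : (𝔛.X 0).Opens} {M : FSch.ModF 𝔛 h} (hM : ZeroOn U M) (hZ : Z ≤ U)
    (m : M.val.obj (op Z)) : m = 0 :=
  eq_zero_of_isZero_restr hM (homOfLE hZ) m

theorem ZeroOn.mono {U U' : (𝔛.X 0).Opens} {M : FSch.ModF 𝔛 h} (hM : ZeroOn U M) (e : U' ≤ U) : ZeroOn U' M :=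
  isZero_restr_of_le (homOfLE e) hM

theorem zeroOn_of_exact {U : (𝔛.X 0).Opens} {S : ShortComplex (FSch.ModF 𝔛 h)} (hS : S.Exact)
    (h₁ : ZeroOn U S.X₁) (h₃ : ZeroOn U S.X₃) : ZeroOn U S.X₂ :=
  (hS.map (ModSite.restr (𝔛.Osh h) U)).isZero_of_both_zeros (h₁.eq_of_src _ _) (h₃.eq_of_tgt _ _)

section

variable (hL : 𝔛.IsLocNoethFormal) {fin : Prop} {U : (𝔛.X 0).Opens}

include hL in
theorem pOn_of_isZero {M : FSch.ModF 𝔛 h} (hM : IsZero M) : POn fin M U := by
  have h1 : POn fin (FSch.unitF 𝔛 h) U := pOn_of_coh (isCohF_unit hL) U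
  have e : IsZero (cokernel (𝟙 (FSch.unitF 𝔛 h))) := isZero_cokernel_of_epi _
  exact (POn.coker hL _ h1 h1).of_iso hL (e.iso hM)

include hL in
theorem pOn_of_zeroOn {M : FSch.ModF 𝔛 h} (hM : ZeroOn U M) : POn fin M U := by
  have h0 : IsZero (cokernel (𝟙 M)) := isZero_cokernel_of_epi _
  refine POn.of_isoOn' hL (φ := (0 : M ⟶ cokernel (𝟙 M))) (fun Z hZ => ?_) (pOn_of_isZero hL h0)
  refine ⟨fun a b _ => (eq_zero_of_zeroOn hM hZ a).trans (eq_zero_of_zeroOn hM hZ b).symm, fun y => ⟨0, ?_⟩⟩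
  exact (eq_zero_of_zeroOn (zeroOn_of_isZero U h0) hZ _).trans (eq_zero_of_zeroOn (zeroOn_of_isZero U h0) hZ y).symm

theorem POn.weaken {M : FSch.ModF 𝔛 h} (hM : POn True M U) : POn fin M U := fun _ hx _ hW =>
  let ⟨V, h1, h2, D, hD⟩ := hM hx hW
  ⟨V, h1, h2, D, fun _ => hD trivial⟩

/-- Kernels of maps from good modules are good. -/
def Sep (fin : Prop) (X : FSch.ModF 𝔛 h) (U : (𝔛.X 0).Opens) : Prop :=
  ∀ V : (𝔛.X 0).Opens, V ≤ U → ∀ (Q : FSch.ModF 𝔛 h) (ψ : Q ⟶ X), POn fin Q V → POn fin (kernel ψ) V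

include hL in
theorem Sep.of_local {X : FSch.ModF 𝔛 h}
    (hX : ∀ x ∈ U, ∃ V : (𝔛.X 0).Opens, x ∈ V ∧ Sep fin X V) : Sep fin X U := fun W hW Q ψ hQ =>
  POn.of_local fun x hx => by
    obtain ⟨V, hxV, hV⟩ := hX x (hW hx)
    exact ⟨V ⊓ W, ⟨hxV, hx⟩, hV (V ⊓ W) inf_le_left Q ψ (hQ.mono inf_le_right)⟩

include hL in
theorem sep_of_exact {A₀ A₁ X B : FSch.ModF 𝔛 h} (a : A₀ ⟶ A₁) (b : A₁ ⟶ X) (c : X ⟶ B) (hab : a ≫ b = 0)
    (hbc : b ≫ c = 0) (e₁ : (ShortComplex.mk a b hab).Exact) (e₂ : (ShortComplex.mk b c hbc).Exact)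
    (h₀ : POn fin A₀ U) (h₁ : POn fin A₁ U) (hB : POn fin B U) : Sep fin X U := by
  intro V hV Q ψ hQ
  let A := cokernel a
  let m : A ⟶ X := cokernel.desc a b hab
  haveI : Mono m := e₁.mono_cokernelDesc
  have hmc : m ≫ c = 0 := coequalizer.hom_ext (by simp [m, hbc])
  have e₃ : (ShortComplex.mk m c hmc).Exact := by
    let α : ShortComplex.mk b c hbc ⟶ ShortComplex.mk m c hmc :=
      { τ₁ := cokernel.π a, τ₂ := 𝟙 X, τ₃ := 𝟙 B }
    exact (ShortComplex.exact_iff_of_epi_of_isIso_of_mono α).1 e₂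
  let Q1 := kernel (ψ ≫ c)
  have hQ1 : POn fin Q1 V := POn.ker hL _ hQ (hB.mono hV)
  haveI : Mono (ShortComplex.mk m c hmc).f := (inferInstance : Mono m)
  let l : Q1 ⟶ A := e₃.lift (kernel.ι (ψ ≫ c) ≫ ψ) ((Category.assoc _ _ _).trans (kernel.condition _))
  have hl : l ≫ m = kernel.ι (ψ ≫ c) ≫ ψ := e₃.lift_f _ _
  have hA : POn fin A V := POn.coker hL a (h₀.mono hV) (h₁.mono hV)
  have hk : POn fin (kernel l) V := POn.ker hL l hQ1 hA
  let u1 : kernel l ⟶ kernel ψ := kernel.lift ψ (kernel.ι l ≫ kernel.ι (ψ ≫ c))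
    (by rw [Category.assoc, ← hl, kernel.condition_assoc, zero_comp])
  let u2 : kernel ψ ⟶ kernel l := kernel.lift l
    (kernel.lift (ψ ≫ c) (kernel.ι ψ) (by rw [kernel.condition_assoc, zero_comp]))
    (by rw [← cancel_mono m, Category.assoc, hl, kernel.lift_ι_assoc, kernel.condition, zero_comp])
  refine hk.of_iso hL ⟨u1, u2, ?_, ?_⟩
  · rw [← cancel_mono (kernel.ι l), ← cancel_mono (kernel.ι (ψ ≫ c))]
    simp [u1, u2]
  · rw [← cancel_mono (kernel.ι ψ)]
    simp [u1, u2]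

include hL in
theorem five' {A B X C E : FSch.ModF 𝔛 h} (f : A ⟶ B) (g : B ⟶ X) (k : X ⟶ C)
    (l : C ⟶ E) (hfg : f ≫ g = 0) (hgk : g ≫ k = 0) (hkl : k ≫ l = 0) (e₁ : (ShortComplex.mk f g hfg).Exact)
    (e₂ : (ShortComplex.mk g k hgk).Exact) (e₃ : (ShortComplex.mk k l hkl).Exact)
    (hA : POn fin A U) (hB : POn fin B U) (hl : POn fin (kernel l) U) : POn fin X U := by
  let kk : X ⟶ Limits.kernel l := kernel.lift l k hkl
  haveI : Epi kk := e₃.epi_kernelLift
  let q : Limits.cokernel f ⟶ X := cokernel.desc f g hfg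
  haveI : Mono q := e₁.mono_cokernelDesc
  have hq : q ≫ kk = 0 := coequalizer.hom_ext (equalizer.hom_ext (by simp [q, kk, hgk]))
  let S : ShortComplex (FSch.ModF 𝔛 h) := ShortComplex.mk q kk hq
  have hS : S.Exact := by
    let α : ShortComplex.mk g kk (by rw [← cancel_mono (kernel.ι l)]; simp [kk, hgk]) ⟶ S :=
      { τ₁ := cokernel.π f, τ₂ := 𝟙 X, τ₃ := 𝟙 _ }
    rw [← ShortComplex.exact_iff_of_epi_of_isIso_of_mono α]
    let β : ShortComplex.mk g kk (by rw [← cancel_mono (kernel.ι l)]; simp [kk, hgk]) ⟶ ShortComplex.mk g k hgk :=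
      { τ₁ := 𝟙 _, τ₂ := 𝟙 X, τ₃ := kernel.ι l }
    rw [ShortComplex.exact_iff_of_epi_of_isIso_of_mono β]
    exact e₂
  haveI : Mono S.f := (inferInstance : Mono q)
  let iso : Limits.cokernel f ≅ Limits.kernel kk :=
    (IsLimit.conePointUniqueUpToIso hS.fIsKernel (kernelIsKernel S.g) :)
  exact POn.extension hL kk ((POn.coker hL f hA hB).of_iso hL iso) hl

end

/-- Complexes of modules. -/
local notation "CF" => CochainComplex (FSch.ModF 𝔛 h) ℤ

/-- The cohomology of the internal Hom complex. -/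
abbrev Eh (J F : CochainComplex (FSch.ModF 𝔛 h) ℤ) (i : ℤ) : FSch.ModF 𝔛 h := ((hS F).obj J).homology i

theorem nonempty_Eh_iso (J : CochainComplex (FSch.ModF 𝔛 h) ℤ) {F F' : CochainComplex (FSch.ModF 𝔛 h) ℤ}
    (e : F ≅ F') (i : ℤ) : Nonempty (Eh J F i ≅ Eh J F' i) :=
  ⟨(HomologicalComplex.homologyFunctor (FSch.ModF 𝔛 h) (ComplexShape.up ℤ) i).mapIso
    ((Adjunction.rightAdjointUniq (hSAdj F)
      ((hSAdj F').ofNatIsoLeft ((ModSite.tensorCx (𝔛.Osh h)).flip.mapIso e).symm)).app J)⟩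

/-- The rotated sequence of a mapping cone. -/
abbrev rotS {A B : CochainComplex (FSch.ModF 𝔛 h) ℤ} (β : A ⟶ B) : ShortComplex (CochainComplex (FSch.ModF 𝔛 h) ℤ) :=
  CochainComplex.mappingCone.triangleRotateShortComplex β

theorem zero_homology {T : ShortComplex (CochainComplex (FSch.ModF 𝔛 h) ℤ)} (_ : T.ShortExact) (i : ℤ) :
    HomologicalComplex.homologyMap T.f i ≫ HomologicalComplex.homologyMap T.g i = 0 := by
  rw [← HomologicalComplex.homologyMap_comp, T.zero, HomologicalComplex.homologyMap_zero]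

theorem shortExact_rot {A B : CochainComplex (FSch.ModF 𝔛 h) ℤ} (β : A ⟶ B) : (rotS β).ShortExact :=
  HomologicalComplex.shortExact_of_degreewise_shortExact _ fun n =>
    (CochainComplex.mappingCone.triangleRotateShortComplexSplitting β n).shortExact

/-- The cone of a map which is invertible over `U` has no cohomology over `U`. -/
theorem zeroOn_homology_cone {A B : CochainComplex (FSch.ModF 𝔛 h) ℤ} (β : A ⟶ B) (U : (𝔛.X 0).Opens)
    (hβ : IsIso (((ModSite.restr (𝔛.Osh h) U).mapHomologicalComplex (ComplexShape.up ℤ)).map β)) (j : ℤ) :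
    ZeroOn U ((CochainComplex.mappingCone β).homology j) := by
  let R := ModSite.restr (𝔛.Osh h) U
  let β' := (R.mapHomologicalComplex (ComplexShape.up ℤ)).map β
  haveI : IsIso β' := hβ
  have h0 : IsZero (DerivedCategory.Q.obj (CochainComplex.mappingCone β')) :=
    (Pretriangulated.Triangle.isZero₃_iff_isIso₁ _
      (DerivedCategory.mappingCone_triangle_distinguished β')).2
      (inferInstanceAs (IsIso (DerivedCategory.Q.map β')))
  have h1 : IsZero ((CochainComplex.mappingCone β').homology j) :=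
    ((DerivedCategory.homologyFunctor _ j).map_isZero h0).of_iso
      ((DerivedCategory.homologyFunctorFactors _ j).app _).symm
  exact (isZero_restr_homology _ j).2 (h1.of_iso
    ((HomologicalComplex.homologyFunctor _ _ j).mapIso (CochainComplex.mappingCone.mapHomologicalComplexIso β R)))

/-- A single complex shifted by one. -/
def singleShiftIso (k : ℤ) (M : FSch.ModF 𝔛 h) :
    ((HomologicalComplex.single (FSch.ModF 𝔛 h) (ComplexShape.up ℤ) k).obj M)⟦(1 : ℤ)⟧ ≅
      (HomologicalComplex.single (FSch.ModF 𝔛 h) (ComplexShape.up ℤ) (k - 1)).obj M :=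
  ((CochainComplex.singleFunctors (FSch.ModF 𝔛 h)).shiftIso (1 : ℤ) (k - 1) k (by omega)).app M

theorem pOn_homology_single (hL : 𝔛.IsLocNoethFormal) {fin : Prop} {U : (𝔛.X 0).Opens} {M : FSch.ModF 𝔛 h}
    (hM : POn fin M U) (k j : ℤ) :
    POn fin (((HomologicalComplex.single (FSch.ModF 𝔛 h) (ComplexShape.up ℤ) k).obj M).homology j) U := by
  by_cases hj : j = k
  · subst hj
    exact hM.of_iso hL (HomologicalComplex.singleObjHomologySelfIso _ _ _).symm
  · exact pOn_of_isZero hL (HomologicalComplex.isZero_single_obj_homology _ _ _ _ hj)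

/-- The map `j_{V!} O_V ⟶ O`. -/
def freeToUnit (V : (𝔛.X 0).Opens) : ModSite.freeOn (𝔛.Osh h) V ⟶ FSch.unitF 𝔛 h :=
  (SiteBase.FreeOn.freeOnEquiv (𝔛.Osh h) V _).symm (1 : OR 𝔛 h V)

open SiteBase.ExtZeroPre Groth.Agent.ModTensor in
attribute [local instance] SiteBase.ExtZeroPre.decEqHom in
/-- Over `V` the map `j_{V!} O_V ⟶ O` is invertible. -/
theorem isIso_restr_freeToUnit (V : (𝔛.X 0).Opens) :
    IsIso ((ModSite.restr (𝔛.Osh h) V).map (freeToUnit (h := h) V)) := by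
  let O := 𝔛.Osh h
  let φ := freeToUnit (h := h) V
  let R := ModSite.restr O V
  let η := (ModSite.extZeroAdj O V).unit.app (ModSite.unit (O.over V))
  let t := (ModSite.extZeroAdj O V).homEquiv _ _ φ
  have htop : SiteBase.FreeOn.sectionsOverEquiv O _ V (((ModSite.restr O V).obj _).unitHomEquiv t) = (1 : OR 𝔛 h V) :=
    Equiv.apply_symm_apply (SiteBase.FreeOn.freeOnEquiv O V (FSch.unitF 𝔛 h)) _
  have ht1 : t = 𝟙 _ := by
    apply ((ModSite.restr O V).obj (FSch.unitF 𝔛 h)).unitHomEquiv.injective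
    apply (SiteBase.FreeOn.sectionsOverEquiv O _ V).injective
    exact htop
  have ht : η ≫ R.map φ = 𝟙 _ := ((ModSite.extZeroAdj O V).homEquiv_unit _ _ _).symm.trans ht1
  haveI : Epi (R.map φ) := epi_of_epi_fac ht
  let A := ModSite.unit (O.over V)
  let φ₂ : (jSh O V).obj A ⟶ FSch.unitF 𝔛 h := (extZeroIso O V).inv.app A ≫ φ
  haveI : Mono (R.map φ₂) := by
    refine Preadditive.mono_of_isZero_kernel _ (IsZero.of_iso ?_ (PreservesKernel.iso R φ₂).symm)
    refine isZero_restr_of_forall fun Z g s => ?_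
    let P := (jC O.obj V).obj ((preU O V).obj A)
    have hu : (jShAdj O V).unit.app A ≫ R.map φ₂ = 𝟙 _ := by
      rw [← ht]
      show _ = (ModSite.extZeroAdj O V).unit.app A ≫ R.map φ
      rw [← Adjunction.unit_leftAdjointUniq_hom_app (ModSite.extZeroAdj O V) (jShAdj O V),
        Category.assoc, ← Functor.map_comp]
      congr 2
      simp [φ₂, extZeroIso]
    let s' : ((jSh O V).obj A).val.obj (op Z) := ((kernel.ι φ₂).val.app (op Z)).hom s
    have hs0 : (φ₂.val.app (op Z)).hom s' = 0 :=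
      congrArg (fun f : kernel φ₂ ⟶ FSch.unitF 𝔛 h => (f.val.app (op Z)).hom s) (kernel.condition φ₂)
    refine FPLocal.app_injective_of_mono (kernel.ι φ₂) Z (Eq.trans ?_ (map_zero _).symm)
    show s' = 0
    haveI := (((Opens.grothendieckTopology (𝔛.X 0)).W_iff_isLocallyBijective _).1 (W_shUnit O P)).2
    refine ((isSheaf_iff_isSheaf_of_type _ _).1
      ((sheafCompose _ (forget AddCommGrpCat.{u})).obj (ModSite.toAb ((jSh O V).obj A))).property _
        (Presheaf.imageSieve_mem _ ((PresheafOfModules.toPresheaf _).map (shUnit O P))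
          (U := op Z) s')).isSeparatedFor.ext fun W q hq => ?_
    obtain ⟨w, hw⟩ := hq
    show ((jSh O V).obj A).val.map q.op s' = ((jSh O V).obj A).val.map q.op 0
    rw [map_zero]
    refine hw.symm.trans ?_
    let Φ : (jObj (R := (ModSite.ringSh O).obj) A.val).obj (op W) →+ A.val.obj (op (Over.mk (q ≫ g))) :=
      ((φ₂.val.app (op W)).hom.toAddMonoidHom.comp ((shUnit O P).app (op W)).hom.toAddMonoidHom : _)
    have hΦ : (ι (R := (ModSite.ringSh O).obj) A.val W (q ≫ g)).comp Φ = AddMonoidHom.id _ := by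
      refine DirectSum.addHom_ext fun f x => ?_
      obtain rfl : f = q ≫ g := Subsingleton.elim _ _
      refine congrArg (ι (R := (ModSite.ringSh O).obj) A.val W (q ≫ g)) ?_
      have hsh := SiteBase.SectRestr.jShAdj_unit_apply O V A W (q ≫ g) x
      have e1 := congrArg (fun f : A ⟶ R.obj (FSch.unitF 𝔛 h) => (f.val.app (op (Over.mk (q ≫ g)))).hom x) hu
      refine Eq.trans ?_ e1
      exact (congrArg (φ₂.val.app (op W)).hom hsh).symm
    have hΦ0 : Φ w = 0 := by
      refine (congrArg (φ₂.val.app (op W)).hom hw).trans ?_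
      refine (PresheafOfModules.naturality_apply φ₂.val q.op s').trans ?_
      rw [hs0, map_zero]
    have hw0 : w = 0 := by
      refine (DFunLike.congr_fun hΦ w).symm.trans ?_
      show ι (R := (ModSite.ringSh O).obj) A.val W (q ≫ g) (Φ w) = 0
      rw [hΦ0, map_zero]
    show (shUnit O P).app (op W) w = 0
    rw [hw0, map_zero]
  haveI : Mono (R.map φ) := by
    have e : φ = (extZeroIso O V).hom.app A ≫ φ₂ := by simp [φ₂]
    rw [e, Functor.map_comp]
    infer_instance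
  exact isIso_of_mono_of_epi _

section Main

variable (hL : 𝔛.IsLocNoethFormal) (J : CochainComplex (FSch.ModF 𝔛 h) ℤ) [J.IsKInjective] (n : ℤ)
  (hJ0 : ∀ j, j < n → IsZero (J.X j)) {fin : Prop} (hJH : ∀ j, POn fin (J.homology j) ⊤)

variable {S : ShortComplex (CochainComplex (FSch.ModF 𝔛 h) ℤ)}
  (σ : ∀ q, (S.map (HomologicalComplex.eval (FSch.ModF 𝔛 h) (ComplexShape.up ℤ) q)).Splitting)

include hJ0 in
theorem zeroOn_Eh {U : (𝔛.X 0).Opens} (F : CochainComplex (FSch.ModF 𝔛 h) ℤ) (M i : ℤ)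
    (hF : ∀ j, M ≤ j → ZeroOn U (F.homology j)) (hi : i + M ≤ n) : ZeroOn U (Eh J F i) :=
  isZero_restr_homology_hS F J M n i hF hJ0 hi

include hL hJ0 in
theorem pOn_Eh_of_acyclic {U : (𝔛.X 0).Opens} (F : CochainComplex (FSch.ModF 𝔛 h) ℤ)
    (hF : ∀ j, ZeroOn U (F.homology j)) (i : ℤ) : POn fin (Eh J F i) U :=
  pOn_of_zeroOn hL (zeroOn_Eh J n hJ0 F (n - i) i (fun j _ => hF j) (by omega))

include hL σ in
theorem pOn_E₁ {U : (𝔛.X 0).Opens} (i : ℤ) (a : POn fin (Eh J S.X₃ i) U) (b : POn fin (Eh J S.X₂ i) U)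
    (c : POn fin (Eh J S.X₃ (i + 1)) U) (d : POn fin (Eh J S.X₂ (i + 1)) U) : POn fin (Eh J S.X₁ i) U := by
  have hT := shortExact_hSSeq σ J
  exact POn.five hL _ _ _ _ ((zero_homology (shortExact_hSSeq σ J) i)) (hT.comp_δ i (i + 1) rfl) (hT.δ_comp i (i + 1) rfl)
    (hT.homology_exact₂ i) (hT.homology_exact₃ i (i + 1) rfl) (hT.homology_exact₁ i (i + 1) rfl) a b c d

include hL σ in
theorem pOn_E₂ {U : (𝔛.X 0).Opens} (i : ℤ) (a : POn fin (Eh J S.X₁ (i - 1)) U) (b : POn fin (Eh J S.X₃ i) U)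
    (c : POn fin (Eh J S.X₁ i) U) (d : POn fin (Eh J S.X₃ (i + 1)) U) : POn fin (Eh J S.X₂ i) U := by
  have hT := shortExact_hSSeq σ J
  exact POn.five hL _ _ _ _ (hT.δ_comp (i - 1) i (by simp)) ((zero_homology (shortExact_hSSeq σ J) i))
    (hT.comp_δ i (i + 1) rfl) (hT.homology_exact₁ (i - 1) i (by simp)) (hT.homology_exact₂ i)
    (hT.homology_exact₃ i (i + 1) rfl) a b c d

include hL σ in
theorem pOn_E₃ {U : (𝔛.X 0).Opens} (j i : ℤ) (hji : j + 1 = i) (a : POn fin (Eh J S.X₂ j) U)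
    (b : POn fin (Eh J S.X₁ j) U) (c : POn fin (Eh J S.X₂ i) U) (d : POn fin (Eh J S.X₁ i) U) :
    POn fin (Eh J S.X₃ i) U := by
  have hT := shortExact_hSSeq σ J
  exact POn.five hL _ _ _ _ (hT.comp_δ j i hji) (hT.δ_comp j i hji) ((zero_homology (shortExact_hSSeq σ J) i))
    (hT.homology_exact₃ j i hji) (hT.homology_exact₁ j i hji) (hT.homology_exact₂ i) a b c d

include hL σ in
theorem sep_E₁ {U : (𝔛.X 0).Opens} (i : ℤ) (a : POn fin (Eh J S.X₃ i) U) (b : POn fin (Eh J S.X₂ i) U)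
    (c : POn fin (Eh J S.X₃ (i + 1)) U) : Sep fin (Eh J S.X₁ i) U := by
  have hT := shortExact_hSSeq σ J
  exact sep_of_exact hL _ _ _ ((zero_homology (shortExact_hSSeq σ J) i)) (hT.comp_δ i (i + 1) rfl)
    (hT.homology_exact₂ i) (hT.homology_exact₃ i (i + 1) rfl) a b c

include hL σ in
theorem pOn_E₁' {U : (𝔛.X 0).Opens} (i : ℤ) (a : POn fin (Eh J S.X₃ i) U) (b : POn fin (Eh J S.X₂ i) U)
    (c : POn fin (Eh J S.X₃ (i + 1)) U) (d : Sep fin (Eh J S.X₂ (i + 1)) U) : POn fin (Eh J S.X₁ i) U := by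
  have hT := shortExact_hSSeq σ J
  exact five' hL _ _ _ _ ((zero_homology (shortExact_hSSeq σ J) i)) (hT.comp_δ i (i + 1) rfl) (hT.δ_comp i (i + 1) rfl)
    (hT.homology_exact₂ i) (hT.homology_exact₃ i (i + 1) rfl) (hT.homology_exact₁ i (i + 1) rfl) a b
    (d U le_rfl _ _ c)

/-- All internal Homs out of the shifts of `M` are good over `V`. -/
def Good (fin : Prop) (J : CochainComplex (FSch.ModF 𝔛 h) ℤ) (M : FSch.ModF 𝔛 h) (V : (𝔛.X 0).Opens) : Prop :=
  ∀ k i : ℤ, POn fin (Eh J ((HomologicalComplex.single (FSch.ModF 𝔛 h) (ComplexShape.up ℤ) k).obj M) i) V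

include hL hJ0 in
theorem good_step {V : (𝔛.X 0).Opens} (M : FSch.ModF 𝔛 h) (k : ℤ) :
    (∀ i, POn fin (Eh J ((HomologicalComplex.single (FSch.ModF 𝔛 h) (ComplexShape.up ℤ) k).obj M) i) V) ↔
    (∀ i, POn fin (Eh J ((HomologicalComplex.single (FSch.ModF 𝔛 h) (ComplexShape.up ℤ) (k - 1)).obj M) i) V) := by
  let A := (HomologicalComplex.single (FSch.ModF 𝔛 h) (ComplexShape.up ℤ) k).obj M
  let σ := CochainComplex.mappingCone.triangleRotateShortComplexSplitting (𝟙 A)
  have hC : ∀ i, POn fin (Eh J (rotS (𝟙 A)).X₂ i) V := fun i =>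
    pOn_Eh_of_acyclic hL J n hJ0 _ (fun j => zeroOn_homology_cone (𝟙 A) V inferInstance j) i
  constructor
  · intro hk i
    obtain ⟨e⟩ := nonempty_Eh_iso J (singleShiftIso k M) i
    exact (pOn_E₃ hL J σ (i - 1) i (by omega) (hC _) (hk _) (hC _) (hk _)).of_iso hL e
  · intro hk i
    have hk' : ∀ i, POn fin (Eh J (rotS (𝟙 A)).X₃ i) V := fun i => by
      obtain ⟨e⟩ := nonempty_Eh_iso J (singleShiftIso k M) i
      exact (hk i).of_iso hL e.symm
    exact pOn_E₁ hL J σ i (hk' _) (hC _) (hk' _) (hC _)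

include hL hJ0 hJH in
theorem good_unit (V : (𝔛.X 0).Opens) : Good fin J (FSch.unitF 𝔛 h) V := by
  intro k
  induction k using Int.induction_on with
  | zero =>
    exact fun i => ((hJH i).mono le_top).of_iso hL
      ((HomologicalComplex.homologyFunctor (FSch.ModF 𝔛 h) (ComplexShape.up ℤ) i).mapIso (hSUnitIso.app J)).symm
  | succ k ih =>
    refine (good_step hL J n hJ0 _ _).2 ?_
    rwa [show (k : ℤ) + 1 - 1 = k by omega]
  | pred k ih =>
    intro i
    exact ((good_step hL J n hJ0 _ _).1 ih) i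

include hL hJ0 hJH in
theorem good_freeOn (V : (𝔛.X 0).Opens) : Good fin J (ModSite.freeOn (𝔛.Osh h) V) V := by
  intro k i
  let s := HomologicalComplex.single (FSch.ModF 𝔛 h) (ComplexShape.up ℤ) (k + 1)
  let β := s.map (freeToUnit (h := h) V)
  let σ := CochainComplex.mappingCone.triangleRotateShortComplexSplitting β
  have hβ : IsIso (((ModSite.restr (𝔛.Osh h) V).mapHomologicalComplex (ComplexShape.up ℤ)).map β) := by
    haveI := isIso_restr_freeToUnit (h := h) V
    exact (NatIso.isIso_map_iff (HomologicalComplex.singleMapHomologicalComplex (ModSite.restr (𝔛.Osh h) V)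
      (ComplexShape.up ℤ) (k + 1)) (freeToUnit (h := h) V)).2 (inferInstanceAs (IsIso ((HomologicalComplex.single _ (ComplexShape.up ℤ) (k + 1)).map ((ModSite.restr (𝔛.Osh h) V).map (freeToUnit (h := h) V)))))
  have hC : ∀ i, POn fin (Eh J (rotS β).X₂ i) V := fun i =>
    pOn_Eh_of_acyclic hL J n hJ0 _ (fun j => zeroOn_homology_cone β V hβ j) i
  have hU : ∀ i, POn fin (Eh J (rotS β).X₁ i) V := fun i => good_unit hL J n hJ0 hJH V (k + 1) i
  obtain ⟨e⟩ := nonempty_Eh_iso J (singleShiftIso (k + 1) (ModSite.freeOn (𝔛.Osh h) V) ≪≫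
    eqToIso (by rw [show k + 1 - 1 = k by omega])) i
  exact (pOn_E₃ hL J σ (i - 1) i (by omega) (hC _) (hU _) (hC _) (hU _)).of_iso hL e

include hL in
theorem pOn_freeOn (V : (𝔛.X 0).Opens) : POn fin (ModSite.freeOn (𝔛.Osh h) V) V := by
  refine POn.of_isoOn' hL (φ := freeToUnit (h := h) V) (fun Z hZ => ?_) (pOn_of_coh (isCohF_unit hL) V)
  haveI := isIso_restr_freeToUnit (h := h) V
  let R := ModSite.restr (𝔛.Osh h) V
  let Zo : Over V := Over.mk (homOfLE hZ)
  refine Function.bijective_iff_has_inverse.2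
    ⟨fun y => ((inv (R.map (freeToUnit (h := h) V))).val.app (op Zo)).hom y, fun x => ?_, fun y => ?_⟩
  · exact congrArg (fun f : R.obj (ModSite.freeOn (𝔛.Osh h) V) ⟶ R.obj _ => (f.val.app (op Zo)).hom x)
      (IsIso.hom_inv_id (R.map (freeToUnit (h := h) V)))
  · exact congrArg (fun f : R.obj (FSch.unitF 𝔛 h) ⟶ R.obj _ => (f.val.app (op Zo)).hom y)
      (IsIso.inv_hom_id (R.map (freeToUnit (h := h) V)))

include hL hJ0 hJH in
theorem exists_cover {N : FSch.ModF 𝔛 h} {V : (𝔛.X 0).Opens} :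
    ∀ (l : ℕ) (z : Fin l → N.val.obj (op V)), ∃ (M₀ : FSch.ModF 𝔛 h) (q : M₀ ⟶ N),
      Good fin J M₀ V ∧ POn True M₀ V ∧ ∀ a, ∃ y, (q.val.app (op V)).hom y = z a
  | 0, z => by
    have h0 : IsZero (cokernel (𝟙 N)) := isZero_cokernel_of_epi _
    refine ⟨_, (0 : cokernel (𝟙 N) ⟶ N), fun k i => ?_, pOn_of_isZero hL h0, fun a => a.elim0⟩
    exact pOn_Eh_of_acyclic hL J n hJ0 _ (fun j => zeroOn_of_isZero V
      ((HomologicalComplex.homologyFunctor (FSch.ModF 𝔛 h) (ComplexShape.up ℤ) j).map_isZero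
        ((HomologicalComplex.single (FSch.ModF 𝔛 h) (ComplexShape.up ℤ) k).map_isZero h0))) i
  | l + 1, z => by
    obtain ⟨M₁, q₁, hg₁, hp₁, hy₁⟩ := exists_cover l (fun a => z a.castSucc)
    let F₀ := ModSite.freeOn (𝔛.Osh h) V
    let q₀ : F₀ ⟶ N := (SiteBase.FreeOn.freeOnEquiv (𝔛.Osh h) V N).symm (z (Fin.last l))
    haveI : HasBinaryBiproducts (FSch.ModF 𝔛 h) := HasBinaryBiproducts.of_hasBinaryProducts
    let q : F₀ ⊞ M₁ ⟶ N := biprod.desc q₀ q₁
    let S : ShortComplex (FSch.ModF 𝔛 h) := ShortComplex.mk (biprod.inl : F₀ ⟶ F₀ ⊞ M₁) biprod.snd (by simp)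
    let sp : S.Splitting := ShortComplex.Splitting.ofHasBinaryBiproduct F₀ M₁
    refine ⟨F₀ ⊞ M₁, q, fun k i => ?_, ?_, fun a => ?_⟩
    · let s := HomologicalComplex.single (FSch.ModF 𝔛 h) (ComplexShape.up ℤ) k
      let σ : ∀ p, ((S.map s).map (HomologicalComplex.eval (FSch.ModF 𝔛 h) (ComplexShape.up ℤ) p)).Splitting :=
        fun p => (sp.map s).map (HomologicalComplex.eval (FSch.ModF 𝔛 h) (ComplexShape.up ℤ) p)
      exact pOn_E₂ hL J σ i (good_freeOn hL J n hJ0 hJH V _ _) (hg₁ _ _) (good_freeOn hL J n hJ0 hJH V _ _) (hg₁ _ _)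
    · haveI : Epi (biprod.snd : F₀ ⊞ M₁ ⟶ M₁) := inferInstance
      refine POn.extension hL (biprod.snd : F₀ ⊞ M₁ ⟶ M₁) ?_ hp₁
      exact (pOn_freeOn hL V).of_iso hL
        (IsLimit.conePointUniqueUpToIso sp.shortExact.fIsKernel (kernelIsKernel S.g) :)
    · induction a using Fin.lastCases with
      | last =>
        let e := SiteBase.FreeOn.freeOnEquiv (𝔛.Osh h) V _ (biprod.inl : F₀ ⟶ F₀ ⊞ M₁)
        refine ⟨e, ?_⟩
        refine (SiteBase.FreeOn.freeOnEquiv_comp (𝔛.Osh h) V biprod.inl q).symm.trans ?_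
        rw [biprod.inl_desc, Equiv.apply_symm_apply]
      | cast a =>
        obtain ⟨y, hy⟩ := hy₁ a
        refine ⟨((biprod.inr : M₁ ⟶ F₀ ⊞ M₁).val.app (op V)).hom y, ?_⟩
        refine Eq.trans ?_ hy
        exact congrArg (fun f : M₁ ⟶ N => (f.val.app (op V)).hom y) (biprod.inr_desc q₀ q₁)

set_option maxHeartbeats 4000000 in
include hL hJ0 hJH in
/-- One step of the induction. -/
theorem exists_step (F : CochainComplex (FSch.ModF 𝔛 h) ℤ) {U : (𝔛.X 0).Opens}
    (hF : ∀ j, POn True (F.homology j) U) (M : ℤ) (hM : ∀ j, M ≤ j → ZeroOn U (F.homology j))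
    {x : 𝔛.X 0} (hx : x ∈ U) :
    ∃ (V : (𝔛.X 0).Opens) (S : ShortComplex (CochainComplex (FSch.ModF 𝔛 h) ℤ))
      (_ : ∀ q, (S.map (HomologicalComplex.eval (FSch.ModF 𝔛 h) (ComplexShape.up ℤ) q)).Splitting),
      x ∈ V ∧ V ≤ U ∧ S.X₁ = F ∧ (∀ i, POn fin (Eh J S.X₃ i) V) ∧ (∀ j, POn True (S.X₂.homology j) V) ∧
        ∀ j, M - 1 ≤ j → ZeroOn V (S.X₂.homology j) := by
  classical
  let k := M - 1
  obtain ⟨V₁, hV₁U, hxV₁, I, t, hgen, -, hI⟩ := (hF k).exists_genFin hL hx hx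
  haveI := hI trivial
  obtain ⟨S₀, hS₀, hS₀'⟩ := FPLocal.exists_sieve_preimage_family (F.homologyπ k) t
  obtain ⟨V, g, hg, hxV⟩ := hS₀ x hxV₁
  obtain ⟨z, hz⟩ := hS₀' g hg
  have hVU : V ≤ U := (leOfHom g).trans hV₁U
  obtain ⟨l, ⟨eI⟩⟩ := Finite.exists_equiv_fin I
  obtain ⟨M₀, q, hgood, hcoh, hy⟩ := exists_cover hL J n hJ0 hJH (fin := fin) l (fun a => z (eI.symm a))
  let s := HomologicalComplex.single (FSch.ModF 𝔛 h) (ComplexShape.up ℤ) k
  let β : s.obj M₀ ⟶ F := HomologicalComplex.mkHomFromSingle (q ≫ F.iCycles k) (fun p _ => by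
    rw [Category.assoc, HomologicalComplex.iCycles_d, comp_zero])
  let S := rotS β
  have hS := shortExact_rot β
  have hX₃ : ∀ j, POn True (S.X₃.homology j) V := fun j =>
    (pOn_homology_single hL hcoh (k - 1) j).of_iso hL
      ((HomologicalComplex.homologyFunctor _ _ j).mapIso (singleShiftIso k M₀).symm)
  have hX₃0 : ∀ j, k ≤ j → IsZero (S.X₃.homology j) := fun j hj =>
    (HomologicalComplex.isZero_single_obj_homology (ComplexShape.up ℤ) (k - 1) M₀ j (by omega)).of_iso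
      ((HomologicalComplex.homologyFunctor _ _ j).mapIso (singleShiftIso k M₀))
  refine ⟨V, S, CochainComplex.mappingCone.triangleRotateShortComplexSplitting β, hxV, hVU, rfl, fun i => ?_,
    fun j => ?_, fun j hj => ?_⟩
  · obtain ⟨e⟩ := nonempty_Eh_iso J (singleShiftIso k M₀) i
    exact (hgood (k - 1) i).of_iso hL e.symm
  · exact POn.five hL _ _ _ _ (hS.δ_comp (j - 1) j (by simp)) (zero_homology hS j)
      (hS.comp_δ j (j + 1) rfl) (hS.homology_exact₁ (j - 1) j (by simp)) (hS.homology_exact₂ j)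
      (hS.homology_exact₃ j (j + 1) rfl) (hX₃ _) ((hF j).mono hVU) (hX₃ _) ((hF _).mono hVU)
  · by_cases hjk : M ≤ j
    · exact zeroOn_of_exact (hS.homology_exact₂ j) ((hM j hjk).mono hVU) (zeroOn_of_isZero V (hX₃0 j (by omega)))
    obtain rfl : j = k := by omega
    let ir : F ⟶ S.X₂ := CochainComplex.mappingCone.inr β
    let Hi : F.homology k ⟶ S.X₂.homology k := HomologicalComplex.homologyMap ir k
    have hzero : HomologicalComplex.homologyMap β k ≫ Hi = 0 := by
      rw [← HomologicalComplex.homologyMap_comp]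
      show HomologicalComplex.homologyMap (β ≫ HomologicalComplex.homotopyCofiber.inr β) k = 0
      rw [(HomologicalComplex.homotopyCofiber.inrCompHomotopy β (fun m => ⟨m - 1, by simp⟩)).homologyMap_eq,
        HomologicalComplex.homologyMap_zero]
    have hq : q ≫ F.homologyπ k =
        (HomologicalComplex.singleObjHomologySelfIso _ k M₀).inv ≫ HomologicalComplex.homologyMap β k := by
      have e1 : (HomologicalComplex.singleObjCyclesSelfIso (ComplexShape.up ℤ) k M₀).inv ≫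
          HomologicalComplex.cyclesMap β k = q := by
        rw [← cancel_mono (F.iCycles k), Category.assoc, HomologicalComplex.cyclesMap_i,
          HomologicalComplex.singleObjCyclesSelfIso_inv_iCycles_assoc, HomologicalComplex.mkHomFromSingle_f,
          Iso.inv_hom_id_assoc]
      rw [← e1, Category.assoc, ← HomologicalComplex.homologyπ_naturality, ← Category.assoc,
        HomologicalComplex.singleObjCyclesSelfIso_inv_homologyπ]
    have hq0 : q ≫ F.homologyπ k ≫ Hi = 0 := by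
      rw [← Category.assoc, hq, Category.assoc, hzero, comp_zero]
    have ht : ∀ i, (Hi.val.app (op V)).hom (FPLocal.mres (F.homology k) g.op (t i)) = 0 := fun i => by
      obtain ⟨y, hy⟩ := hy (eI i)
      rw [Equiv.symm_apply_apply] at hy
      rw [← hz i, ← hy]
      exact congrArg (fun f : M₀ ⟶ S.X₂.homology k => (f.val.app (op V)).hom y) hq0
    have hHi : (ModSite.restr (𝔛.Osh h) V).map Hi = 0 := by
      refine (SiteBase.SectRestr.restr_map_eq_zero_iff (𝔛.Osh h) V Hi).2 fun Z gZ m => ?_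
      obtain ⟨Sv, hSv, hSv'⟩ := hgen (gZ ≫ g) m
      refine ((isSheaf_iff_isSheaf_of_type _ _).1
        ((sheafCompose _ (forget AddCommGrpCat.{u})).obj (ModSite.toAb (S.X₂.homology k))).property _
          hSv).isSeparatedFor.ext fun W f hf => ?_
      obtain ⟨T, a, ha⟩ := hSv' f hf
      show (S.X₂.homology k).val.map f.op ((Hi.val.app (op Z)).hom m) = (S.X₂.homology k).val.map f.op 0
      rw [map_zero]
      refine (PresheafOfModules.naturality_apply Hi.val f.op m).symm.trans ?_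
      refine (congrArg (Hi.val.app (op W)).hom ha).symm.trans ?_
      rw [map_sum]
      refine Finset.sum_eq_zero fun i _ => ?_
      rw [map_smul, show f ≫ gZ ≫ g = (f ≫ gZ) ≫ g from (Category.assoc _ _ _).symm, op_comp,
        FPLocal.mres_comp, FPLocal.app_mres, ht, map_zero, smul_zero]
    exact ((hS.homology_exact₂ k).map (ModSite.restr (𝔛.Osh h) V)).isZero_of_both_zeros hHi
      ((zeroOn_of_isZero V (hX₃0 k le_rfl)).eq_of_tgt _ _)

include hL hJ0 hJH in
/-- The internal Hom out of a complex with coherent cohomology, bounded above, has good cohomology. -/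
theorem pOn_Eh_main : ∀ (d : ℕ) (F : CochainComplex (FSch.ModF 𝔛 h) ℤ) (U : (𝔛.X 0).Opens) (M i : ℤ),
    (∀ j, POn True (F.homology j) U) → (∀ j, M ≤ j → ZeroOn U (F.homology j)) → i + M ≤ n + d →
    POn fin (Eh J F i) U
  | 0, F, U, M, i, _, hM, hi => pOn_of_zeroOn hL (zeroOn_Eh J n hJ0 F M i hM (by simpa using hi))
  | d + 1, F, U, M, i, hF, hM, hi => by
    have weak : ∀ (F : CochainComplex (FSch.ModF 𝔛 h) ℤ) (U : (𝔛.X 0).Opens) (M i : ℤ),
        (∀ j, POn True (F.homology j) U) → (∀ j, M ≤ j → ZeroOn U (F.homology j)) → i + M ≤ n + (d + 1 : ℕ) →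
        Sep fin (Eh J F i) U := by
      intro F U M i hF hM hi
      refine Sep.of_local hL fun x hx => ?_
      obtain ⟨V, S, σ, hxV, hVU, rfl, h₃, h₂, h₂'⟩ := exists_step hL J n hJ0 hJH (fin := fin) F hF M hM hx
      exact ⟨V, hxV, sep_E₁ hL J σ i (h₃ _) (pOn_Eh_main d _ V (M - 1) i h₂ h₂' (by push_cast at hi; omega)) (h₃ _)⟩
    refine POn.of_local fun x hx => ?_
    obtain ⟨V, S, σ, hxV, hVU, rfl, h₃, h₂, h₂'⟩ := exists_step hL J n hJ0 hJH (fin := fin) F hF M hM hx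
    exact ⟨V, hxV, pOn_E₁' hL J σ i (h₃ _) (pOn_Eh_main d _ V (M - 1) i h₂ h₂' (by push_cast at hi; omega)) (h₃ _)
      (weak _ V (M - 1) (i + 1) h₂ h₂' (by omega))⟩

end Main

end Groth.Agent.FSchRHom
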