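import Groth.Agent.FSchRHomLib.Induct
import Groth.Prelude.Def_SiteCmp
import Mathlib.Algebra.Homology.ModelCategory.Injective

/-!
# The internal derived Hom on a locally Noetherian formal scheme
-/

set_option autoImplicit false
set_option linter.style.haveILetI false
set_option backward.isDefEq.respectTransparency false
set_option backward.isDefEq.respectTransparency.types false
set_option maxHeartbeats 2000000

universe u

open CategoryTheory CategoryTheory.Limits AlgebraicGeometry TopologicalSpace Opposite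

attribute [local instance] HasDerivedCategory.standard

noncomputable section

namespace Groth.Agent.FSchRHom

variable {𝔛 : FSch.Sys.{u}} {h : 𝔛.IsFormal}

theorem exists_injective_ge (G : DerivedCategory (FSch.ModF 𝔛 h)) (n : ℤ)
    (hG : ∀ i, i < n → IsZero ((DerivedCategory.homologyFunctor (FSch.ModF 𝔛 h) i).obj G)) :
    ∃ J : CochainComplex (FSch.ModF 𝔛 h) ℤ, J.IsKInjective ∧ (∀ i, i < n → IsZero (J.X i)) ∧
      Nonempty (DerivedCategory.Q.obj J ≅ G) := by
  let T := DerivedCategory.Q.objPreimage G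
  let e₀ : DerivedCategory.Q.obj T ≅ G := DerivedCategory.Q.objObjPreimageIso G
  haveI : T.IsGE n := (CochainComplex.isGE_iff T n).2 fun i hi =>
    (HomologicalComplex.exactAt_iff_isZero_homology _ _).2 (IsZero.of_iso (hG i hi)
      (((DerivedCategory.homologyFunctorFactors (FSch.ModF 𝔛 h) i).app T).symm ≪≫
        (DerivedCategory.homologyFunctor _ i).mapIso e₀))
  haveI : QuasiIso (T.πTruncGE n) := (T.quasiIso_πTruncGE_iff n).2 inferInstance
  haveI : IsGrothendieckAbelian.{u} (FSch.ModF 𝔛 h) := inferInstance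
  obtain ⟨E, ι, h1, h2, h3⟩ :=
    CochainComplex.Plus.modelCategoryQuillen.exists_quasiIso_injective (T.truncGE n) n
  haveI := h3
  haveI := h1
  haveI := h2
  haveI : IsIso (DerivedCategory.Q.map (T.πTruncGE n)) :=
    (DerivedCategory.isIso_Q_map_iff_quasiIso (C := FSch.ModF 𝔛 h) _).2 inferInstance
  haveI : IsIso (DerivedCategory.Q.map ι) :=
    (DerivedCategory.isIso_Q_map_iff_quasiIso (C := FSch.ModF 𝔛 h) _).2 inferInstance
  exact ⟨E, CochainComplex.isKInjective_of_injective E n,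
    fun i hi => CochainComplex.isZero_of_isStrictlyGE E n i hi,
    ⟨(asIso (DerivedCategory.Q.map ι)).symm ≪≫ (asIso (DerivedCategory.Q.map (T.πTruncGE n))).symm ≪≫ e₀⟩⟩

/-- Cohomology of `RHom(F, G)` is good when that of `F` is coherent and that of `G` is good. -/
theorem pOn_hMod_RHom (hL : 𝔛.IsLocNoethFormal) {fin : Prop}
    (F : CochainComplex (FSch.ModF 𝔛 h) ℤ) [ModSite.HasLTensorCx F] [DerComp.HasRHom F]
    (hF : ∀ i : ℤ, FSch.IsCohF 𝔛 h (SiteCmp.HMod (DerivedCategory.Q.obj F) i))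
    (m : ℤ) (hFm : ∀ i : ℤ, m ≤ i → IsZero (SiteCmp.HMod (DerivedCategory.Q.obj F) i))
    (G : DerivedCategory (FSch.ModF 𝔛 h)) (hG : ∀ i : ℤ, POn fin (SiteCmp.HMod G i) ⊤)
    (n : ℤ) (hGn : ∀ i : ℤ, i ≤ n → IsZero (SiteCmp.HMod G i)) (i : ℤ) :
    POn fin (SiteCmp.HMod ((DerComp.RHom F).obj G) i) ⊤ := by
  obtain ⟨J, hJ, hJ0, ⟨eG⟩⟩ := exists_injective_ge G (n + 1) fun j hj => hGn j (by omega)
  haveI := hJ
  let HQ := fun j : ℤ => DerivedCategory.homologyFunctorFactors (FSch.ModF 𝔛 h) j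
  let H := fun j : ℤ => DerivedCategory.homologyFunctor (FSch.ModF 𝔛 h) j
  let K := (DCohLib.resF (𝔛.Osh h)).obj F
  haveI : IsIso (DerivedCategory.Q.map ((DCohLib.resFπ (𝔛.Osh h)).app F)) :=
    (DerivedCategory.isIso_Q_map_iff_quasiIso (C := FSch.ModF 𝔛 h) _).2 (DCohLib.quasiIso_resFπ (𝔛.Osh h) F)
  let eK : ∀ j, SiteCmp.HMod (DerivedCategory.Q.obj F) j ≅ K.homology j := fun j =>
    ((H j).mapIso (asIso (DerivedCategory.Q.map ((DCohLib.resFπ (𝔛.Osh h)).app F)))).symm ≪≫ (HQ j).app K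
  have hK : ∀ j, POn True (K.homology j) (⊤ : (𝔛.X 0).Opens) := fun j =>
    (pOn_of_coh (hF j) ⊤).of_iso hL (eK j)
  have hJH : ∀ j, POn fin (J.homology j) (⊤ : (𝔛.X 0).Opens) := fun j =>
    (hG j).of_iso hL (((H j).mapIso eG).symm ≪≫ (HQ j).app J)
  obtain ⟨e⟩ := nonempty_rhom (𝔛.Osh h) F J
  obtain ⟨d, hd⟩ : ∃ d : ℕ, i + m ≤ (n + 1) + d := ⟨(i + m - (n + 1)).toNat, by omega⟩
  refine (pOn_Eh_main hL J (n + 1) hJ0 hJH d K ⊤ m i hK (fun j hj => zeroOn_of_isZero ⊤
    ((hFm j hj).of_iso (eK j).symm)) hd).of_iso hL ?_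
  exact ((HQ i).app _).symm ≪≫ (H i).mapIso (e ≪≫ (DerComp.RHom F).mapIso eG)

end Groth.Agent.FSchRHom
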