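import Groth.Agent.DCohLib.DualCx
import Groth.Agent.DerCompLib.RHom
import Groth.Agent.DerCompLib.LocTensor
import Groth.Agent.DerSchH7.SiteHom
import Groth.Agent.SiteBase.SectRestr
import Groth.Agent.FPLocal.Lift
import Mathlib.Algebra.Homology.HomotopyCategory.MappingCone
import Mathlib.Algebra.Homology.Embedding.TruncLEHomology

/-!
# The internal Hom complex on a ringed site, and where its cohomology vanishes
-/

set_option autoImplicit false
set_option linter.style.haveILetI false
set_option linter.unusedSectionVars false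
set_option backward.isDefEq.respectTransparency false
set_option backward.isDefEq.respectTransparency.types false
set_option maxHeartbeats 1000000

universe u

open CategoryTheory CategoryTheory.Limits Opposite

attribute [local instance] HasDerivedCategory.standard

noncomputable section

namespace Groth.Agent.FSchRHom

open Groth.Agent.DCohLib Groth.Agent.KFlat

section Precomp

universe v₁ v₂ v₃ v₄ u₁ u₂ u₃ u₄

variable {A₁ : Type u₁} [Category.{v₁} A₁] [Abelian A₁] {A₂ : Type u₂} [Category.{v₂} A₂] [Abelian A₂]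
  {A₃ : Type u₃} [Category.{v₃} A₃] [Abelian A₃] {B : Type u₄} [Category.{v₄} B] [Abelian B]
  [∀ n : ℤ, HasColimitsOfShape (Discrete (Idx n)) B]

/-- Precomposing the second variable of a total complex. -/
def totPrecomp (G : A₁ ⥤ A₃ ⥤ B) (H : A₂ ⥤ A₃) [H.Additive] [G.Additive] [∀ X, (G.obj X).Additive]
    [(G ⋙ (Functor.whiskeringLeft _ _ _).obj H).Additive]
    [∀ X, ((G ⋙ (Functor.whiskeringLeft _ _ _).obj H).obj X).Additive]
    (L : CochainComplex A₁ ℤ) (K : CochainComplex A₂ ℤ) :
    (tot (G ⋙ (Functor.whiskeringLeft _ _ _).obj H) L).obj K ≅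
      (tot G L).obj ((H.mapHomologicalComplex (ComplexShape.up ℤ)).obj K) :=
  Iso.refl _

end Precomp

variable {C : Type u} [SmallCategory C] {J : GrothendieckTopology C} {O : Sheaf J CommRingCat.{u}}

local notation "Cx" => CochainComplex (ModSite.Mod O) ℤ

/-- Tensoring with a complex on the right. -/
abbrev tenRS (K : Cx) : Cx ⥤ Cx := (ModSite.tensorCx O).flip.obj K

instance isLeftAdjoint_tenRS (K : Cx) : (tenRS K).IsLeftAdjoint := isLeftAdjoint_tenR_site O K

/-- The internal Hom complex. -/
def hS (K : Cx) : Cx ⥤ Cx := (tenRS K).rightAdjoint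

/-- Its adjunction. -/
def hSAdj (K : Cx) : tenRS K ⊣ hS K := Adjunction.ofIsLeftAdjoint _

/-- Contravariance. -/
def hSMap {K K' : Cx} (β : K' ⟶ K) : hS K ⟶ hS K' :=
  conjugateEquiv (hSAdj K) (hSAdj K') ((ModSite.tensorCx O).flip.map β)

theorem hSMap_eps {K K' : Cx} (β : K' ⟶ K) (T : Cx) :
    ((ModSite.tensorCx O).map ((hSMap β).app T)).app K' ≫ (hSAdj K').counit.app T =
      ((ModSite.tensorCx O).obj ((hS K).obj T)).map β ≫ (hSAdj K).counit.app T :=
  conjugateEquiv_counit (hSAdj K) (hSAdj K') ((ModSite.tensorCx O).flip.map β) T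

theorem hSAdj_symm_hSMap {K K' : Cx} (β : K' ⟶ K) {M T : Cx} (g : M ⟶ (hS K).obj T) :
    ((hSAdj K').homEquiv M T).symm (g ≫ (hSMap β).app T) =
      ((ModSite.tensorCx O).obj M).map β ≫ ((hSAdj K).homEquiv M T).symm g := by
  rw [Adjunction.homEquiv_counit, Adjunction.homEquiv_counit, Functor.map_comp, Category.assoc]
  exact (congrArg (_ ≫ ·) (hSMap_eps β T)).trans
    ((reassoc_of% (((ModSite.tensorCx O).map g).naturality β).symm) _)

attribute [irreducible] hS hSAdj hSMap

instance additive_tenRS (K : Cx) : (tenRS K).Additive :=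
  inferInstanceAs (totR (ModSite.tensorBi O) K).Additive

theorem htpCompatS (K : Cx) : HtpCompat (hSAdj K) where
  map {M N} f hf := by
    obtain ⟨h⟩ := hf
    refine ⟨(HomologicalComplex.mapBifunctorMapHomotopy₁ h (𝟙 K) (ModSite.tensorBi O) (ComplexShape.up ℤ)).trans
      (Homotopy.ofEq ?_)⟩
    exact (tenRS K).map_zero M N
  split M := by
    refine ⟨fun n => HomologicalComplex.mapBifunctorDesc fun p q h =>
      ((ModSite.tensorBi O).map ((CochainComplex.mappingCone.snd (𝟙 M)).v p p (add_zero p))).app (K.X q) ≫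
        HomologicalComplex.ιMapBifunctor M K (ModSite.tensorBi O) _ p q n h, fun n => ?_⟩
    refine HomologicalComplex.mapBifunctor.hom_ext fun p q h => ?_
    show HomologicalComplex.ιMapBifunctor M K (ModSite.tensorBi O) _ p q n h ≫
      (HomologicalComplex.mapBifunctorMap (CochainComplex.mappingCone.inr (𝟙 M)) (𝟙 K) (ModSite.tensorBi O)
        (ComplexShape.up ℤ)).f n ≫ _ = _
    rw [HomologicalComplex.ι_mapBifunctorMap_assoc, HomologicalComplex.ι_mapBifunctorDesc]
    simp only [HomologicalComplex.id_f, CategoryTheory.Functor.map_id, Category.id_comp]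
    rw [← Category.assoc, ← NatTrans.comp_app, ← Functor.map_comp,
      CochainComplex.mappingCone.inr_f_snd_v, CategoryTheory.Functor.map_id, NatTrans.id_app,
      Category.id_comp]
    exact (Category.comp_id _).symm

theorem isKInjective_hS {K : Cx} (hK : ModSite.IsKFlat K) (T : Cx) [T.IsKInjective] :
    ((hS K).obj T).IsKInjective :=
  (htpCompatS K).isKInjective (fun M hM i => by
    rw [HomologicalComplex.exactAt_iff_isZero_homology]
    exact hK M (fun j => (HomologicalComplex.exactAt_iff_isZero_homology _ _).1 (hM j)) i) T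

theorem Q_eq_iff {A T : Cx} [T.IsKInjective] (g g' : A ⟶ T) :
    DerivedCategory.Q.map g = DerivedCategory.Q.map g' ↔
      (HomotopyCategory.quotient _ (ComplexShape.up ℤ)).map g = (HomotopyCategory.quotient _ _).map g' := by
  have h := fun k : A ⟶ T => (DerivedCategory.quotientCompQhIso (ModSite.Mod O)).hom.naturality k
  dsimp only [Functor.comp_map] at h
  refine ⟨fun e => (CochainComplex.IsKInjective.Qh_map_bijective
    ((HomotopyCategory.quotient _ (ComplexShape.up ℤ)).obj A) T).injective ?_, fun e => ?_⟩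
  · rw [← cancel_mono ((DerivedCategory.quotientCompQhIso (ModSite.Mod O)).hom.app T), h, h, e]
  · rw [← cancel_epi ((DerivedCategory.quotientCompQhIso (ModSite.Mod O)).hom.app A), ← h, ← h, e]

theorem exists_Q_map {A T : Cx} [T.IsKInjective] (k : DerivedCategory.Q.obj A ⟶ DerivedCategory.Q.obj T) :
    ∃ g : A ⟶ T, DerivedCategory.Q.map g = k := by
  obtain ⟨g', hg'⟩ := (CochainComplex.IsKInjective.Qh_map_bijective
    ((HomotopyCategory.quotient _ (ComplexShape.up ℤ)).obj A) T).surjective
    ((DerivedCategory.quotientCompQhIso (ModSite.Mod O)).hom.app A ≫ k ≫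
      (DerivedCategory.quotientCompQhIso (ModSite.Mod O)).inv.app T)
  obtain ⟨g, rfl⟩ := (HomotopyCategory.quotient _ (ComplexShape.up ℤ)).map_surjective g'
  refine ⟨g, ?_⟩
  rw [← cancel_epi ((DerivedCategory.quotientCompQhIso (ModSite.Mod O)).hom.app A),
    ← (DerivedCategory.quotientCompQhIso (ModSite.Mod O)).hom.naturality g]
  dsimp only [Functor.comp_map]
  rw [hg']
  simp

theorem Q_eq_zero_iff {K M T : Cx} [T.IsKInjective] [((hS K).obj T).IsKInjective] (g : M ⟶ (hS K).obj T) :
    DerivedCategory.Q.map g = 0 ↔ DerivedCategory.Q.map (((hSAdj K).homEquiv M T).symm g) = 0 := by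
  have key : ∀ {A B : Cx} [B.IsKInjective] (a : A ⟶ B),
      DerivedCategory.Q.map a = 0 ↔ Nonempty (Homotopy a 0) := fun {A B} _ a => by
    rw [← DerivedCategory.Q.map_zero A B, Q_eq_iff]
    exact ⟨fun h => ⟨HomotopyCategory.homotopyOfEq _ _ h⟩, fun ⟨h⟩ => HomotopyCategory.eq_of_homotopy _ _ h⟩
  rw [key, key]
  exact (htpCompatS K).null_iff g

variable (O) in
/-- The internal Hom complex out of a K-flat resolution into a K-injective complex computes `RHom`. -/
theorem nonempty_rhom (F : Cx) [ModSite.HasLTensorCx F] [DerComp.HasRHom F] (T : Cx) [T.IsKInjective] :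
    Nonempty (DerivedCategory.Q.obj ((hS ((resF O).obj F)).obj T) ≅
      (DerComp.RHom F).obj (DerivedCategory.Q.obj T)) := by
  let K := (resF O).obj F
  have hK : ModSite.IsKFlat K := isKFlat_resF O F
  haveI := isKInjective_hS hK T
  haveI := DerSchH7.hasLTensorCx_site O K
  obtain ⟨t⟩ := DerSchH7.nonempty_siteLTensor_of_qis O (E := F) (E' := K) ((resFπ O).app F) (quasiIso_resFπ O F)
  let adj : ModSite.LTensorCx K ⊣ DerComp.RHom F := (DerComp.RHomAdj F).ofNatIsoLeft t.symm
  haveI : IsIso (DerSchH7.siteCounit O K) :=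
    (NatTrans.isIso_iff_isIso_app _).2 fun M => DerSchH7.isIso_siteCounit_app_of_isKFlat O K hK M
  let c := DerSchH7.siteCounit O K
  let L := ModSite.LTensorCx K
  haveI : L.Additive :=
    haveI := adj.leftAdjoint_preservesColimits
    haveI : PreservesColimitsOfShape (Discrete WalkingPair) L := inferInstance
    haveI := preservesBinaryBiproducts_of_preservesBinaryCoproducts L
    Functor.additive_of_preservesBinaryBiproducts _
  let ev : L.obj (DerivedCategory.Q.obj ((hS K).obj T)) ⟶ DerivedCategory.Q.obj T :=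
    c.app ((hS K).obj T) ≫ DerivedCategory.Q.map ((hSAdj K).counit.app T)
  have hev : ∀ (P : Cx) (g : P ⟶ (hS K).obj T), L.map (DerivedCategory.Q.map g) ≫ ev =
      c.app P ≫ DerivedCategory.Q.map (((hSAdj K).homEquiv P T).symm g) := fun P g => by
    rw [Adjunction.homEquiv_counit, DerivedCategory.Q.map_comp, ← Category.assoc, ← Category.assoc]
    exact congrArg (· ≫ _) (c.naturality g)
  let h := adj.homEquiv _ _ ev
  haveI : IsIso h := by
    rw [isIso_iff_yoneda_map_bijective]
    intro B
    obtain ⟨P, ⟨e⟩⟩ : ∃ P : Cx, Nonempty (DerivedCategory.Q.obj P ≅ B) :=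
      ⟨DerivedCategory.Q.objPreimage B, ⟨DerivedCategory.Q.objObjPreimageIso B⟩⟩
    refine ⟨fun a b hab => ?_, fun k => ?_⟩
    · obtain ⟨g, hg⟩ := exists_Q_map (e.hom ≫ (a - b))
      have h0 : DerivedCategory.Q.map g ≫ h = 0 := by
        rw [hg, Category.assoc, Preadditive.sub_comp, sub_eq_zero.2 hab, comp_zero]
      have h1 : DerivedCategory.Q.map (((hSAdj K).homEquiv P T).symm g) = 0 := by
        rw [← cancel_epi (c.app P), ← hev, comp_zero]
        apply (adj.homEquiv _ _).injective
        rw [adj.homEquiv_naturality_left, Adjunction.homEquiv_unit _ _ _ (0 : L.obj _ ⟶ _), Functor.map_zero,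
          comp_zero]
        exact h0
      rw [← sub_eq_zero, ← cancel_epi e.hom, comp_zero, ← hg]
      exact (Q_eq_zero_iff g).2 h1
    · obtain ⟨k', hk'⟩ := exists_Q_map (inv (c.app P) ≫ (adj.homEquiv _ _).symm (e.hom ≫ k))
      refine ⟨e.inv ≫ DerivedCategory.Q.map ((hSAdj K).homEquiv P T k'), ?_⟩
      dsimp only
      rw [← cancel_epi e.hom, Category.assoc, e.hom_inv_id_assoc, ← adj.homEquiv_naturality_left, hev,
        Equiv.symm_apply_apply, hk', IsIso.hom_inv_id_assoc, Equiv.apply_symm_apply]
  exact ⟨asIso h⟩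

/-- Tensoring with the structure sheaf in degree zero is the identity, so is the internal Hom out of it. -/
def hSUnitIso : hS ((HomologicalComplex.single (ModSite.Mod O) (ComplexShape.up ℤ) 0).obj (ModSite.unit O)) ≅
    𝟭 Cx :=
  Adjunction.rightAdjointUniq (hSAdj _)
    ((Adjunction.id (C := Cx)).ofNatIsoLeft
      (NatIso.ofComponents (fun M => DerCompLib.unitorCx O M) fun φ => DerCompLib.unitorCx_naturality O φ))

theorem eq_zero_of_isZero_restr {U : C} {M : ModSite.Mod O} (h : IsZero ((ModSite.restr O U).obj M)) {V : C}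
    (g : V ⟶ U) (s : M.val.obj (op V)) : s = 0 :=
  (SiteBase.SectRestr.restr_map_eq_zero_iff O U (𝟙 M)).1 (h.eq_of_src _ _) V g s

theorem isZero_restr_of_forall {U : C} {M : ModSite.Mod O}
    (h : ∀ (V : C) (_ : V ⟶ U) (s : M.val.obj (op V)), s = 0) : IsZero ((ModSite.restr O U).obj M) := by
  rw [IsZero.iff_id_eq_zero, ← CategoryTheory.Functor.map_id]
  exact (SiteBase.SectRestr.restr_map_eq_zero_iff O U (𝟙 M)).2 fun V g s => (h V g s)

theorem isZero_restr_of_le {U V : C} (g : V ⟶ U) {M : ModSite.Mod O} (h : IsZero ((ModSite.restr O U).obj M)) :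
    IsZero ((ModSite.restr O V).obj M) :=
  isZero_restr_of_forall fun _ f s => eq_zero_of_isZero_restr h (f ≫ g) s

theorem isZero_restr_homology {U : C} (F : Cx) (j : ℤ) :
    IsZero ((ModSite.restr O U).obj (F.homology j)) ↔
      IsZero ((((ModSite.restr O U).mapHomologicalComplex (ComplexShape.up ℤ)).obj F).homology j) :=
  ((((F.sc j).mapHomologyIso (ModSite.restr O U))).isZero_iff).symm

set_option maxHeartbeats 6000000 in
/-- `j_{W!} O_W[-i] ⊗ F` is extended by zero from `W`. -/
def singleTensorIso (W : C) (i : ℤ) (F : Cx) :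
    (tenRS F).obj ((HomologicalComplex.single (ModSite.Mod O) (ComplexShape.up ℤ) i).obj (ModSite.freeOn O W)) ≅
      ((ModSite.extZero O W).mapHomologicalComplex (ComplexShape.up ℤ)).obj
        (((ModSite.tensorCx (O.over W)).obj
          ((HomologicalComplex.single (ModSite.Mod (O.over W)) (ComplexShape.up ℤ) i).obj (ModSite.unit (O.over W)))).obj
          (((ModSite.restr O W).mapHomologicalComplex (ComplexShape.up ℤ)).obj F)) := by
  let Z := ModSite.extZero O W
  haveI : PreservesColimitsOfSize.{u, u} Z := (ModSite.extZeroAdj O W).leftAdjoint_preservesColimits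
  haveI : PreservesColimitsOfSize.{0, 0} Z := preservesColimitsOfSize_shrink.{0, u, 0, u} _
  let E := (HomologicalComplex.single (ModSite.Mod (O.over W)) (ComplexShape.up ℤ) i).obj (ModSite.unit (O.over W))
  let u := (HomologicalComplex.singleMapHomologicalComplex Z (ComplexShape.up ℤ) i).app (ModSite.unit (O.over W))
  let v := mapTotIso (projBiIso O W) E F
  exact (tenRS F).mapIso u.symm ≪≫ v.symm ≪≫ (Z.mapHomologicalComplex (ComplexShape.up ℤ)).mapIso
    (totPrecomp (ModSite.tensorBi (O.over W)) (ModSite.restr O W) E F)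

attribute [irreducible] singleTensorIso

/-- The internal Hom out of a complex with cohomology in degrees `< M` over `U` into a K-injective complex in
degrees `≥ n` has no cohomology over `U` in degrees `≤ n - M`. -/
theorem isZero_restr_homology_hS {U : C} (F T : Cx) [T.IsKInjective] (M n i : ℤ)
    (hF : ∀ j, M ≤ j → IsZero ((ModSite.restr O U).obj (F.homology j)))
    (hT : ∀ j, j < n → IsZero (T.X j)) (hi : i + M ≤ n) :
    IsZero ((ModSite.restr O U).obj (((hS F).obj T).homology i)) := by
  let H := (hS F).obj T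
  refine isZero_restr_of_forall fun V g m => ?_
  -- locally a class comes from a cocycle
  have key : ∀ (W : C) (_ : W ⟶ U) (z : (H.cycles i).val.obj (op W)),
      ((H.homologyπ i).val.app (op W)).hom z = 0 := by
    intro W gW z
    let q : ModSite.freeOn O W ⟶ H.cycles i := (SiteBase.FreeOn.freeOnEquiv O W _).symm z
    let S := HomologicalComplex.single (ModSite.Mod O) (ComplexShape.up ℤ) i
    let a : S.obj (ModSite.freeOn O W) ⟶ H := HomologicalComplex.mkHomFromSingle (q ≫ H.iCycles i) (fun k _ => by
      rw [Category.assoc, HomologicalComplex.iCycles_d, comp_zero])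
    let rF : CochainComplex (ModSite.Mod (O.over W)) ℤ := ((ModSite.restr O W).mapHomologicalComplex (ComplexShape.up ℤ)).obj F
    haveI : rF.IsLE (M - 1) := (CochainComplex.isLE_iff rF (M - 1)).2 fun j hj =>
      (HomologicalComplex.exactAt_iff_isZero_homology _ _).2
        ((isZero_restr_homology F j).1 (isZero_restr_of_le gW (hF j (by omega))))
    haveI : QuasiIso (rF.ιTruncLE (M - 1)) := (CochainComplex.quasiIso_ιTruncLE_iff rF (M - 1)).2 inferInstance
    let S' := HomologicalComplex.single (ModSite.Mod (O.over W)) (ComplexShape.up ℤ) i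
    let E := S'.obj (ModSite.unit (O.over W))
    have hE : ModSite.IsKFlat E := isKFlat_single (O.over W) i (SiteBase.ExtZeroPre.isFlat_unit (O.over W))
    let t := ((ModSite.tensorCx (O.over W)).obj E).map (rF.ιTruncLE (M - 1))
    haveI : QuasiIso t := quasiIso_tensorCxSite_obj_map (O.over W) hE _
    let Z := ModSite.extZero O W
    haveI : PreservesColimitsOfSize.{u, u} Z := (ModSite.extZeroAdj O W).leftAdjoint_preservesColimits
    haveI : PreservesColimitsOfSize.{0, 0} Z := preservesColimitsOfSize_shrink.{0, u, 0, u} _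
    let Zc := Z.mapHomologicalComplex (ComplexShape.up ℤ)
    let e : Zc.obj (((ModSite.tensorCx (O.over W)).obj E).obj rF) ≅ (tenRS F).obj (S.obj (ModSite.freeOn O W)) :=
      (singleTensorIso W i F).symm
    haveI : QuasiIso (Zc.map t) := inferInstance
    let b := ((hSAdj F).homEquiv (S.obj (ModSite.freeOn O W)) T).symm a
    have h0 : Zc.map t ≫ e.hom ≫ b = 0 := HomologicalComplex.hom_ext _ _ fun k => by
      by_cases hk : k < n
      · exact (hT k hk).eq_of_tgt _ _
      · refine IsZero.eq_of_src (Z.map_isZero ?_) _ _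
        rw [IsZero.iff_id_eq_zero]
        refine HomologicalComplex.mapBifunctor.hom_ext fun p r hpr => IsZero.eq_of_src ?_ _ _
        have hpr' : p + r = k := hpr
        by_cases hp : p = i
        · exact ((ModSite.tensorBi (O.over W)).obj (E.X p)).map_isZero
            (CochainComplex.isZero_of_isStrictlyLE (rF.truncLE (M - 1)) (M - 1) r (by omega))
        · exact ((ModSite.tensorBi (O.over W)).flip.obj _).map_isZero
            (HomologicalComplex.isZero_single_obj_X _ _ _ _ hp)
    have hb : DerivedCategory.Q.map b = 0 := by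
      rw [← cancel_epi (DerivedCategory.Q.map e.hom), ← cancel_epi (DerivedCategory.Q.map (Zc.map t)),
        comp_zero, comp_zero, ← Functor.map_comp, ← Functor.map_comp, h0, Functor.map_zero]
    rw [← DerivedCategory.Q.map_zero, Q_eq_iff] at hb
    obtain ⟨hh⟩ := ((htpCompatS F).null_iff a).2 ⟨HomotopyCategory.homotopyOfEq _ _ hb⟩
    have hcomm := hh.comm i
    have e1 : dNext i hh.hom = 0 := by
      rw [dNext_eq hh.hom (show (ComplexShape.up ℤ).Rel i (i + 1) by simp),
        HomologicalComplex.single_obj_d, zero_comp]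
    have e2 : prevD i hh.hom = hh.hom i (i - 1) ≫ H.d (i - 1) i :=
      prevD_eq hh.hom (show (ComplexShape.up ℤ).Rel (i - 1) i by simp)
    rw [e1, e2, zero_add, HomologicalComplex.zero_f, add_zero] at hcomm
    let l := (HomologicalComplex.singleObjXSelf (ComplexShape.up ℤ) i (ModSite.freeOn O W)).inv ≫ hh.hom i (i - 1)
    have hl : l ≫ H.toCycles (i - 1) i = q := by
      rw [← cancel_mono (H.iCycles i), Category.assoc, HomologicalComplex.toCycles_i, Category.assoc, ← hcomm,
        HomologicalComplex.mkHomFromSingle_f, Iso.inv_hom_id_assoc]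
    have hq : q ≫ H.homologyπ i = 0 := by
      rw [← hl, Category.assoc, HomologicalComplex.toCycles_comp_homologyπ, comp_zero]
    have e3 := SiteBase.FreeOn.freeOnEquiv_comp O W q (H.homologyπ i)
    rw [hq, Equiv.apply_symm_apply] at e3
    have e4 : SiteBase.FreeOn.freeOnEquiv O W (H.homology i) 0 = 0 := by
      have e5 := SiteBase.FreeOn.freeOnEquiv_comp O W (𝟙 (ModSite.freeOn O W))
        (0 : ModSite.freeOn O W ⟶ H.homology i)
      rw [comp_zero] at e5
      exact e5
    exact (e4.symm.trans e3).symm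
  obtain ⟨Sv, hSv, hSv'⟩ := FPLocal.exists_sieve_preimage (H.homologyπ i) m
  refine ((isSheaf_iff_isSheaf_of_type _ _).1
    ((sheafCompose J (forget AddCommGrpCat.{u})).obj (ModSite.toAb (H.homology i))).property _
      hSv).isSeparatedFor.ext fun W f hf => ?_
  obtain ⟨z, hz⟩ := hSv' f hf
  show (H.homology i).val.map f.op m = (H.homology i).val.map f.op 0
  rw [map_zero]
  exact hz.symm.trans (key W (f ≫ g) z)

end Groth.Agent.FSchRHom
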