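import Groth.Agent.FSchRHomLib.SiteHom

/-!
# Short exact sequences of internal Hom complexes on a site
-/

set_option autoImplicit false
set_option linter.style.haveILetI false
set_option linter.unusedSectionVars false

set_option backward.isDefEq.respectTransparency false

universe u

open CategoryTheory CategoryTheory.Limits

attribute [local instance] HasDerivedCategory.standard

noncomputable section

namespace Groth.Agent.FSchRHom

theorem hasHomology_cx {A : Type*} [Category A] [Abelian A] (T : ShortComplex (CochainComplex A ℤ)) : T.HasHomology :=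
  inferInstance

open Groth.Agent.DCohLib Groth.Agent.KFlat

variable {C : Type u} [SmallCategory C] {JJ : GrothendieckTopology C} {O : Sheaf JJ CommRingCat.{u}}


variable {S : ShortComplex (CochainComplex (ModSite.Mod O) ℤ)}
  (σ : ∀ q, (S.map (HomologicalComplex.eval (ModSite.Mod O) (ComplexShape.up ℤ) q)).Splitting)
  (J : (CochainComplex (ModSite.Mod O) ℤ))

include σ in
theorem shortExact_tenLS (M : (CochainComplex (ModSite.Mod O) ℤ)) : (S.map ((ModSite.tensorCx O).obj M)).ShortExact :=
  shortExact_tot_of_splitting (ModSite.tensorBi O) M S σ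

theorem tenLS_map_zero (M : (CochainComplex (ModSite.Mod O) ℤ)) {K K' : (CochainComplex (ModSite.Mod O) ℤ)} :
    ((ModSite.tensorCx O).obj M).map (0 : K ⟶ K') = 0 :=
  (tot (ModSite.tensorBi O) M).map_zero _ _

instance preservesZeroMorphisms_tenLS (M : (CochainComplex (ModSite.Mod O) ℤ)) :
    ((ModSite.tensorCx O).obj M).PreservesZeroMorphisms :=
  ⟨fun _ _ => (tot (ModSite.tensorBi O) M).map_zero _ _⟩

/-- The internal Hom complexes out of a short complex. -/
def hSSeq (S : ShortComplex ((CochainComplex (ModSite.Mod O) ℤ))) (J : (CochainComplex (ModSite.Mod O) ℤ)) :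
    ShortComplex ((CochainComplex (ModSite.Mod O) ℤ)) :=
  ShortComplex.mk ((hSMap S.g).app J) ((hSMap S.f).app J) (by
    refine ((hSAdj S.X₁).homEquiv _ J).symm.injective ?_
    rw [hSAdj_symm_hSMap, Adjunction.homEquiv_counit, Adjunction.homEquiv_counit, Functor.map_zero, zero_comp]
    refine (congrArg (_ ≫ ·) (hSMap_eps S.g J)).trans ?_
    refine (Category.assoc _ _ _).symm.trans ?_
    rw [← Functor.map_comp, S.zero]
    exact (congrArg (· ≫ _) (tenLS_map_zero _)).trans zero_comp)

include σ in
theorem mono_hMap_g : Mono ((hSMap S.g).app J) := Preadditive.mono_of_cancel_zero _ fun {M} g hg => by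
  haveI : Epi (((ModSite.tensorCx O).obj M).map S.g) := (shortExact_tenLS σ M).epi_g
  apply ((hSAdj S.X₃).homEquiv M J).symm.injective
  rw [Adjunction.homEquiv_counit _ _ _ (0 : M ⟶ _), Functor.map_zero, zero_comp,
    ← cancel_epi (((ModSite.tensorCx O).obj M).map S.g), comp_zero, ← hSAdj_symm_hSMap, hg, Adjunction.homEquiv_counit,
    Functor.map_zero, zero_comp]

/-- A contractible complex mapping epimorphically. -/
theorem exists_contractible_epi (N : (CochainComplex (ModSite.Mod O) ℤ)) :
    ∃ (C : (CochainComplex (ModSite.Mod O) ℤ)) (p : C ⟶ N), Epi p ∧ Nonempty (Homotopy p 0) := by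
  let M := N⟦(-1 : ℤ)⟧
  have hC : Epi (CochainComplex.mappingCone.triangle (𝟙 M)).mor₃ :=
    (HomologicalComplex.shortExact_of_degreewise_shortExact _ fun n =>
      (CochainComplex.mappingCone.triangleRotateShortComplexSplitting (𝟙 M) n).shortExact).epi_g
  let e := ((shiftEquiv ((CochainComplex (ModSite.Mod O) ℤ)) (1 : ℤ)).counitIso.app N).hom
  let p := (CochainComplex.mappingCone.triangle (𝟙 M)).mor₃ ≫ e
  refine ⟨_, p, @epi_comp _ _ _ _ _ (CochainComplex.mappingCone.triangle (𝟙 M)).mor₃ hC e inferInstance, ⟨?_⟩⟩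
  exact (Homotopy.ofEq (Category.id_comp p).symm).trans
    (((CochainComplex.mappingCone.homotopyToZeroOfId M).compRight p).trans (Homotopy.ofEq zero_comp))

include σ in
theorem epi_hMap_f : Epi ((hSMap S.f).app J) := by
  obtain ⟨C, p, hp, hp0⟩ := exists_contractible_epi ((hS S.X₁).obj J)
  haveI := hp
  obtain ⟨h0⟩ := ((htpCompatS S.X₁).null_iff p).1 hp0
  obtain ⟨g, hg⟩ := exists_extension_of_homotopy (((ModSite.tensorCx O).obj C).map S.f)
    (fun n => (totSplitting _ C S σ n).r) (fun n => (totSplitting _ C S σ n).f_r) _ h0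
  have e : ((hSAdj S.X₂).homEquiv C J g) ≫ (hSMap S.f).app J = p := by
    apply ((hSAdj S.X₁).homEquiv C J).symm.injective
    rw [hSAdj_symm_hSMap, Equiv.symm_apply_apply]
    exact hg
  exact epi_of_epi_fac e

theorem exists_desc_map {C D : Type*} [Category C] [Category D] [Abelian D] [HasZeroMorphisms C] (G : C ⥤ D)
    [G.PreservesZeroMorphisms] (T : ShortComplex C) (hT : (T.map G).ShortExact) {J : D} (k : G.obj T.X₂ ⟶ J)
    (h0 : G.map T.f ≫ k = 0) : ∃ l : G.obj T.X₃ ⟶ J, G.map T.g ≫ l = k :=
  haveI := hT.epi_g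
  ⟨hT.exact.desc k h0, hT.exact.g_desc k h0⟩

include σ in
theorem exists_lift_hMap {M : (CochainComplex (ModSite.Mod O) ℤ)} (g : M ⟶ (hS S.X₂).obj J)
    (hg : g ≫ (hSMap S.f).app J = 0) : ∃ l : M ⟶ (hS S.X₃).obj J, l ≫ (hSMap S.g).app J = g := by
  have h0 : ((ModSite.tensorCx O).obj M).map S.f ≫ ((hSAdj S.X₂).homEquiv M J).symm g = 0 := by
    rw [← hSAdj_symm_hSMap, hg, Adjunction.homEquiv_counit, Functor.map_zero, zero_comp]
  obtain ⟨l, hl⟩ := exists_desc_map (C := (CochainComplex (ModSite.Mod O) ℤ)) (D := (CochainComplex (ModSite.Mod O) ℤ)) (J := J)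
    ((ModSite.tensorCx O).obj M) S (shortExact_tenLS σ M) (((hSAdj S.X₂).homEquiv M J).symm g) h0
  refine Exists.intro ((hSAdj S.X₃).homEquiv M J l) ?_
  apply ((hSAdj S.X₂).homEquiv M J).symm.injective
  rw [hSAdj_symm_hSMap, Equiv.symm_apply_apply]
  exact hl

include σ in
/-- A degreewise split short exact sequence gives a short exact sequence of internal Hom complexes. -/
theorem shortExact_hSSeq : (hSSeq S J).ShortExact := by
  haveI : (hSSeq S J).HasHomology :=
    hasHomology_cx _
  haveI : Mono (hSSeq S J).f := mono_hMap_g σ J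
  refine { exact := ?_, mono_f := ‹_›, epi_g := epi_hMap_f σ J }
  exact ShortComplex.exact_of_f_is_kernel _ (KernelFork.IsLimit.ofι' _ _ fun {M} g hg =>
    ⟨(exists_lift_hMap σ J g hg).choose, (exists_lift_hMap σ J g hg).choose_spec⟩)


end Groth.Agent.FSchRHom
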